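import Groth.Agent.L13.Fitting.Minors
import Mathlib.LinearAlgebra.TensorProduct.RightExactness
import Mathlib.LinearAlgebra.TensorProduct.Pi
import Mathlib.LinearAlgebra.TensorProduct.Tower
import Mathlib.RingTheory.TensorProduct.Finite

/-! Fitting ideals: base change. -/

set_option autoImplicit false

universe u v w

open scoped Classical TensorProduct

namespace Groth.L13.Fitting

variable {R : Type u} [CommRing R] {M : Type v} [AddCommGroup M] [Module R M]
variable (R' : Type w) [CommRing R'] [Algebra R R']

/-- the tuple after base change -/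
noncomputable def bc {n : ℕ} (x : Fin n → M) : Fin n → R' ⊗[R] M := fun i => (1 : R') ⊗ₜ[R] x i

/-- coefficientwise algebra map -/
noncomputable def phi {n : ℕ} (z : Fin n → R) : Fin n → R' := fun i => algebraMap R R' (z i)

theorem span_bc {n : ℕ} (x : Fin n → M) (hx : Submodule.span R (Set.range x) = ⊤) :
    Submodule.span R' (Set.range (bc (R := R) R' x)) = ⊤ := by
  refine top_unique fun u _ => ?_
  induction u using TensorProduct.induction_on with
  | zero => exact zero_mem _
  | add a b ha hb => exact add_mem (ha trivial) (hb trivial)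
  | tmul t m =>
    have hm : m ∈ Submodule.span R (Set.range x) := hx ▸ Submodule.mem_top
    obtain ⟨c, rfl⟩ := (Submodule.mem_span_range_iff_exists_fun R).1 hm
    rw [TensorProduct.tmul_sum]
    refine Submodule.sum_mem _ fun i _ => ?_
    rw [TensorProduct.tmul_smul, show t ⊗ₜ[R] x i = t • bc (R := R) R' x i by
      rw [bc, TensorProduct.smul_tmul', smul_eq_mul, mul_one], ← algebraMap_smul R' (c i) (t • bc (R := R) R' x i), smul_smul]
    exact Submodule.smul_mem _ _ (Submodule.subset_span ⟨i, rfl⟩)

theorem phi_mem_rel {n : ℕ} {x : Fin n → M} {z : Fin n → R} (hz : z ∈ rel (R := R) x) :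
    phi R' z ∈ rel (R := R') (bc (R := R) R' x) := by
  rw [mem_rel] at hz ⊢
  have : ∀ i, phi R' z i • bc (R := R) R' x i = (1 : R') ⊗ₜ[R] (z i • x i) := fun i => by
    rw [phi, bc, algebraMap_smul, TensorProduct.tmul_smul]
  rw [Finset.sum_congr rfl fun i _ => this i, ← TensorProduct.tmul_sum, hz, TensorProduct.tmul_zero]

theorem rel_bc {n : ℕ} (x : Fin n → M) (hx : Submodule.span R (Set.range x) = ⊤) {y : Fin n → R'}
    (hy : y ∈ rel (R := R') (bc (R := R) R' x)) :
    y ∈ Submodule.span R' (phi R' '' (rel (R := R) x : Set (Fin n → R))) := by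
  let π : (Fin n → R) →ₗ[R] M := Fintype.linearCombination R x
  have hπ : Function.Surjective π := by
    rw [← LinearMap.range_eq_top, Fintype.range_linearCombination, hx]
  let w : R' ⊗[R] (Fin n → R) := ∑ i, y i ⊗ₜ[R] Pi.single i 1
  have hw : LinearMap.lTensor R' π w = 0 := by
    rw [mem_rel] at hy
    rw [map_sum]
    refine Eq.trans (Finset.sum_congr rfl fun i _ => ?_) hy
    rw [LinearMap.lTensor_tmul, Fintype.linearCombination_apply_single, one_smul, bc,
      TensorProduct.smul_tmul', smul_eq_mul, mul_one]
  obtain ⟨s, hs⟩ := ((lTensor_exact R' (LinearMap.exact_subtype_ker_map π) hπ) w).1 hw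
  let L : R' ⊗[R] (Fin n → R) →ₗ[R] (Fin n → R') := TensorProduct.lift
    (LinearMap.mk₂ R (fun (t : R') (f : Fin n → R) i => f i • t)
      (fun t t' f => by ext i; simp) (fun c t f => by ext i; simp [smul_comm c])
      (fun t f f' => by ext i; simp [add_smul]) (fun c t f => by ext i; simp [mul_smul]))
  have hLw : L w = y := by
    rw [map_sum]
    ext l
    rw [Finset.sum_apply, Finset.sum_eq_single l (fun i _ hi => ?_) (by simp)]
    · simp [L]
    · simp [L, Ne.symm hi]
  have hL : ∀ s, L (LinearMap.lTensor R' (LinearMap.ker π).subtype s) ∈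
      Submodule.span R' (phi R' '' (rel (R := R) x : Set (Fin n → R))) := by
    intro s
    induction s using TensorProduct.induction_on with
    | zero => simp
    | add a b ha hb => rw [map_add, map_add]; exact add_mem ha hb
    | tmul t k =>
      have : L (LinearMap.lTensor R' (LinearMap.ker π).subtype (t ⊗ₜ k)) = t • phi R' (k : Fin n → R) := by
        ext i; simp [L, phi, Algebra.smul_def, mul_comm]
      rw [this]
      exact Submodule.smul_mem _ _ (Submodule.subset_span ⟨k, k.2, rfl⟩)
  rw [← hLw, ← hs]
  exact hL s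

theorem tup_bc {n : ℕ} (x : Fin n → M) (hx : Submodule.span R (Set.range x) = ⊤) (r : ℕ) :
    tup R' (bc (R := R) R' x) r = (tup R x r).map (algebraMap R R') := by
  refine le_antisymm (Ideal.span_le.2 ?_) ?_
  · rintro _ ⟨a, ha, rfl⟩
    refine det_mem_of_rows _ (fun i => if i ∈ bad (bc (R := R) R' x) a then phi R' '' (Set.univ : Set (Fin n → R))
      else phi R' '' (rel (R := R) x : Set (Fin n → R))) (fun b hb => ?_) a (fun i => ?_)
    · have hc : ∀ i, ∃ z, phi R' z = b i ∧ (i ∉ bad (bc (R := R) R' x) a → z ∈ rel (R := R) x) := by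
        intro i
        have := hb i
        split_ifs at this with h
        · obtain ⟨z, -, e⟩ := this; exact ⟨z, e, fun h' => absurd h h'⟩
        · obtain ⟨z, hz, e⟩ := this; exact ⟨z, e, fun _ => hz⟩
      choose c hcb hcr using hc
      have : b.det = algebraMap R R' (Matrix.det (c : Matrix (Fin n) (Fin n) R)) := by
        rw [RingHom.map_det]
        congr 1
        ext i j
        exact (congrFun (hcb i) j).symm
      rw [this]
      refine Ideal.mem_map_of_mem _ (det_mem_tup _ (le_trans (Finset.card_le_card fun i hi => ?_) ha))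
      by_contra h
      exact (Finset.mem_filter.1 hi).2 (hcr i h)
    · split_ifs with h
      · rw [show a i = ∑ j, a i j • phi R' (Pi.single j (1 : R)) by
          ext l; simp [phi, Pi.single_apply, apply_ite (algebraMap R R')]]
        exact Submodule.sum_mem _ fun j _ => Submodule.smul_mem _ _ (Submodule.subset_span ⟨_, trivial, rfl⟩)
      · refine rel_bc R' x hx ?_
        by_contra h2; exact h (Finset.mem_filter.2 ⟨Finset.mem_univ _, h2⟩)
  · rw [tup, Ideal.map_span, Ideal.span_le]
    rintro _ ⟨_, ⟨a, ha, rfl⟩, rfl⟩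
    rw [SetLike.mem_coe, RingHom.map_det]
    refine det_mem_tup _ (le_trans (Finset.card_le_card fun i hi => ?_) ha)
    simp only [bad, Finset.mem_filter, Finset.mem_univ, true_and] at hi ⊢
    exact fun h => hi (phi_mem_rel R' h)

theorem ideal_baseChange [Module.Finite R M] (r : ℕ) :
    Fitt.ideal R' (R' ⊗[R] M) r = (Fitt.ideal R M r).map (algebraMap R R') := by
  obtain ⟨n, x, hx⟩ := exists_gens (R := R) (M := M)
  rw [ideal_eq_tup x hx, ideal_eq_tup (bc (R := R) R' x) (span_bc R' x hx), tup_bc R' x hx]

end Groth.L13.Fitting
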