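import Groth.Agent.L13.Fitting.Fibre
import Mathlib.RingTheory.LocalProperties.Projective
import Mathlib.RingTheory.Spectrum.Prime.FreeLocus
import Mathlib.RingTheory.LocalRing.Module
import Mathlib.RingTheory.Support

/-! Fitting ideals: supports and local freeness. -/

set_option autoImplicit false

universe u v w

open scoped Classical TensorProduct

namespace Groth.L13.Fitting

variable {R : Type u} [CommRing R] {M : Type v} [AddCommGroup M] [Module R M]

theorem linearIndependent_of_bot [Module.Finite R M] {k : ℕ} (x : Fin k → M)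
    (hx : Submodule.span R (Set.range x) = ⊤) (h : ∀ r, r < k → Fitt.ideal R M r = ⊥) :
    LinearIndependent R x := by
  rw [Fintype.linearIndependent_iff]
  intro z hz i
  have hk : 0 < k := lt_of_le_of_lt (Nat.zero_le _) i.2
  have hdet : ((1 : Matrix (Fin k) (Fin k) R).updateRow i z).det = z i := by
    have h1 : z = ∑ j, z j • (1 : Matrix (Fin k) (Fin k) R) j := by
      ext l; simp [Finset.sum_apply, Matrix.one_apply]
    conv_lhs => rw [h1]
    rw [Matrix.det_updateRow_sum]; simp
  have hm : z i ∈ tup R x (k - 1) := by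
    rw [← hdet]
    refine det_mem_tup _ (le_trans (Finset.card_le_card (t := Finset.univ.erase i) fun j hj => ?_) (by simp))
    refine Finset.mem_erase.2 ⟨fun e => ?_, Finset.mem_univ _⟩
    subst e
    refine (Finset.mem_filter.1 hj).2 ?_
    rw [Matrix.updateRow_self, mem_rel]; exact hz
  rw [← ideal_eq_tup x hx, h (k - 1) (by omega)] at hm
  simpa using hm

theorem ideal_of_basis {k : ℕ} (b : Module.Basis (Fin k) R M) (r : ℕ) :
    Fitt.ideal R M r = if k ≤ r then ⊤ else ⊥ := by
  rw [ideal_eq_tup b b.span_eq]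
  split_ifs with h
  · exact tup_eq_top _ h
  · refine le_bot_iff.1 (Ideal.span_le.2 ?_)
    rintro _ ⟨a, ha, rfl⟩
    obtain ⟨i, -, hi⟩ := Finset.exists_mem_notMem_of_card_lt_card (s := bad (b : Fin k → M) a) (t := Finset.univ)
      (by simp; omega)
    have h0 : a i = 0 := by
      have := (Finset.mem_filter.not.1 hi)
      simp only [Finset.mem_univ, true_and, not_not, mem_rel] at this
      exact funext (Fintype.linearIndependent_iff.1 b.linearIndependent _ this)
    rw [SetLike.mem_coe, Matrix.det_eq_zero_of_row_eq_zero i fun j => by rw [h0]; rfl]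
    exact zero_mem _

section Same

variable {R : Type u} [CommRing R] {M : Type u} [AddCommGroup M] [Module R M] [Module.Finite R M]

theorem map_ideal_localization (S : Submonoid R) (r : ℕ) :
    Fitt.ideal (Localization S) (LocalizedModule S M) r = (Fitt.ideal R M r).map (algebraMap R (Localization S)) := by
  rw [← ideal_baseChange]
  exact (ideal_congr (LocalizedModule.equivTensorProduct S M).symm r).symm

theorem gens_away {k : ℕ} {n : ℕ} {x : Fin n → M} (hx : Submodule.span R (Set.range x) = ⊤)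
    {z : Fin (n - k) → Fin n → R} (hz : ∀ j, ∑ i, z j i • x i = 0) {e : Fin (n - k) → Fin n} :
    ∃ g : Fin k → LocalizedModule (Submonoid.powers (minor z e)) M,
      Submodule.span (Localization.Away (minor z e)) (Set.range g) = ⊤ :=
  gens_equiv (LocalizedModule.equivTensorProduct (Submonoid.powers (minor z e)) M).symm
    (gens_baseChange_of_isUnit hx hz (Localization.Away (minor z e))
      (IsLocalization.Away.algebraMap_isUnit (minor z e)))

theorem not_le_iff_away (p : Ideal R) [p.IsPrime] (k : ℕ) : ¬ Fitt.ideal R M k ≤ p ↔ ∃ f : R, f ∉ p ∧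
    ∃ g : Fin k → LocalizedModule (Submonoid.powers f) M,
      Submodule.span (Localization.Away f) (Set.range g) = ⊤ := by
  refine ⟨fun h => ?_, ?_⟩
  · obtain ⟨n, x, z, e, hx, hz, hp⟩ := exists_minor_notMem h
    exact ⟨minor z e, hp, gens_away hx hz⟩
  · rintro ⟨f, hf, g, hg⟩ hle
    have h1 := ideal_eq_top_of_gens g hg le_rfl
    rw [map_ideal_localization, ← not_ne_iff,
      IsLocalization.map_algebraMap_ne_top_iff_disjoint (Submonoid.powers f)] at h1
    refine h1 (Set.disjoint_left.2 ?_)
    rintro _ ⟨N, rfl⟩ hmem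
    exact hf (Ideal.IsPrime.mem_of_pow_mem ‹_› N (hle hmem))

theorem not_le_iff_gens (p : Ideal R) [p.IsPrime] (k : ℕ) : ¬ Fitt.ideal R M k ≤ p ↔
    ∃ g : Fin k → LocalizedModule p.primeCompl M, Submodule.span (Localization.AtPrime p) (Set.range g) = ⊤ := by
  rw [not_le_iff_localization]
  exact ⟨gens_equiv (LocalizedModule.equivTensorProduct p.primeCompl M).symm,
    gens_equiv (LocalizedModule.equivTensorProduct p.primeCompl M)⟩

theorem ideal_zero_le_annihilator : Fitt.ideal R M 0 ≤ Module.annihilator R M := by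
  obtain ⟨n, x, hx⟩ := exists_gens (R := R) (M := M)
  rw [ideal_eq_tup x hx]
  refine Ideal.span_le.2 ?_
  rintro _ ⟨a, ha, rfl⟩
  have hz : ∀ i, ∑ l, a i l • x l = 0 := fun i => by
    have h0 : bad x a = ∅ := Finset.card_eq_zero.1 (by omega)
    by_contra h
    exact Finset.notMem_empty i (h0 ▸ Finset.mem_filter.2 ⟨Finset.mem_univ i, fun h' => h (mem_rel.1 h')⟩)
  have hj : ∀ j, a.det • x j = 0 := fun j => by
    calc a.det • x j = ∑ l, (a.adjugate * a) j l • x l := by
          rw [Matrix.adjugate_mul]; simp [Matrix.one_apply, ite_smul]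
      _ = ∑ i, a.adjugate j i • ∑ l, a i l • x l := by
          simp only [Matrix.mul_apply, Finset.sum_smul, Finset.smul_sum, mul_smul]; exact Finset.sum_comm
      _ = 0 := by simp [hz]
  rw [SetLike.mem_coe, Module.mem_annihilator]
  intro m
  have hm : m ∈ Submodule.span R (Set.range x) := hx ▸ Submodule.mem_top
  obtain ⟨c, rfl⟩ := (Submodule.mem_span_range_iff_exists_fun R).1 hm
  simp [Finset.smul_sum, smul_comm a.det, hj]

theorem zeroLocus_ideal_zero : PrimeSpectrum.zeroLocus (Fitt.ideal R M 0 : Set R) = Module.support R M := by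
  ext p
  rw [PrimeSpectrum.mem_zeroLocus, SetLike.coe_subset_coe, Module.mem_support_iff, ← not_subsingleton_iff_nontrivial,
    ← not_iff_not, not_not, not_le_iff_gens]
  refine ⟨fun ⟨g, hg⟩ => ?_, fun h => ⟨fun i => i.elim0, Subsingleton.elim _ _⟩⟩
  rw [Set.range_eq_empty, Submodule.span_empty] at hg
  exact ⟨fun a b => ((Submodule.mem_bot _).1 (hg ▸ Submodule.mem_top : a ∈ ⊥)).trans
    ((Submodule.mem_bot _).1 (hg ▸ Submodule.mem_top : b ∈ ⊥)).symm⟩

theorem ideal_quotient (I : Ideal R) : Fitt.ideal R (R ⧸ I) 0 = I := by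
  have hx : Submodule.span R (Set.range fun _ : Fin 1 => (1 : R ⧸ I)) = ⊤ := top_unique fun m _ => by
    obtain ⟨c, rfl⟩ := Ideal.Quotient.mk_surjective m
    rw [show Ideal.Quotient.mk I c = c • (1 : R ⧸ I) by rw [Algebra.smul_def, mul_one]; rfl]
    exact Submodule.smul_mem _ _ (Submodule.subset_span ⟨0, rfl⟩)
  have hiff : ∀ w : Fin 1 → R, w ∈ rel (R := R) (fun _ : Fin 1 => (1 : R ⧸ I)) ↔ w 0 ∈ I := fun w => by
    rw [mem_rel]; simp [Algebra.smul_def, ← Ideal.Quotient.eq_zero_iff_mem]
  rw [ideal_eq_tup _ hx]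
  refine le_antisymm (Ideal.span_le.2 ?_) fun d hd => ?_
  · rintro _ ⟨a, ha, rfl⟩
    have h0 : bad (fun _ : Fin 1 => (1 : R ⧸ I)) a = ∅ := Finset.card_eq_zero.1 (by omega)
    rw [SetLike.mem_coe, Matrix.det_unique]
    by_contra h
    have hmem : (0 : Fin 1) ∈ bad (fun _ : Fin 1 => (1 : R ⧸ I)) a :=
      Finset.mem_filter.2 ⟨Finset.mem_univ 0, fun h' => h ((hiff _).1 h')⟩
    rw [h0] at hmem
    exact Finset.notMem_empty 0 hmem
  · rw [show d = Matrix.det (Matrix.of fun _ _ : Fin 1 => d) by simp]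
    refine det_mem_tup _ (le_of_eq (Finset.card_eq_zero.2 (Finset.filter_eq_empty_iff.2 fun i _ => ?_)))
    rw [not_not, hiff]; exact hd

/-- an element dying at every prime vanishes -/
theorem ideal_eq_bot_of_local (I : Ideal R) (h : ∀ (p : Ideal R) [p.IsPrime], ∀ d ∈ I, ∃ s ∉ p, s * d = 0) : I = ⊥ := by
  refine le_bot_iff.1 fun d hd => ?_
  let A : Ideal R := { carrier := {s | s * d = 0}
                       zero_mem' := zero_mul d
                       add_mem' := fun {a b} ha hb => show (a + b) * d = 0 by rw [add_mul, ha, hb, add_zero]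
                       smul_mem' := fun c a ha => show c * a * d = 0 by rw [mul_assoc, ha, mul_zero] }
  by_contra hd0
  have hA : A ≠ ⊤ := fun e => hd0 (by
    have h1 : (1 : R) * d = 0 := (show (1 : R) ∈ A from e ▸ Submodule.mem_top)
    simpa using h1)
  obtain ⟨m, hm, hAm⟩ := A.exists_le_maximal hA
  haveI := hm.isPrime
  obtain ⟨s, hs, hsd⟩ := h m d hd
  exact hs (hAm hsd)

theorem killed_of_localization_bot (S : Submonoid R) {r : ℕ}
    (h : Fitt.ideal (Localization S) (LocalizedModule S M) r = ⊥) {d : R} (hd : d ∈ Fitt.ideal R M r) :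
    ∃ s ∈ S, s * d = 0 := by
  rw [map_ideal_localization, Ideal.map_eq_bot_iff_le_ker] at h
  obtain ⟨⟨s, hs⟩, e⟩ := (IsLocalization.map_eq_zero_iff S (Localization S) d).1 (h hd)
  exact ⟨s, hs, e⟩

theorem nontrivial_away {p : Ideal R} [hp : p.IsPrime] {f : R} (hf : f ∉ p) : Nontrivial (Localization.Away f) := by
  refine ⟨⟨1, 0, fun e => hf ?_⟩⟩
  rw [← map_one (algebraMap R (Localization.Away f))] at e
  obtain ⟨⟨_, N, rfl⟩, hN⟩ := (IsLocalization.map_eq_zero_iff (Submonoid.powers f) (Localization.Away f) 1).1 e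
  exact hp.mem_of_pow_mem N (by rw [show f ^ N = 0 by simpa using hN]; exact zero_mem _)

theorem locallyFree_iff (r : ℕ) : (∀ (p : Ideal R) [p.IsPrime], ∃ f : R, f ∉ p ∧
      Module.Free (Localization.Away f) (LocalizedModule (Submonoid.powers f) M) ∧
        Module.finrank (Localization.Away f) (LocalizedModule (Submonoid.powers f) M) = r) ↔
    ((∀ k, k < r → Fitt.ideal R M k = ⊥) ∧ (∀ k, r ≤ k → Fitt.ideal R M k = ⊤)) := by
  constructor
  · intro h
    have hb : ∀ (p : Ideal R) [p.IsPrime], ∃ f : R, f ∉ p ∧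
        Nonempty (Module.Basis (Fin r) (Localization.Away f) (LocalizedModule (Submonoid.powers f) M)) := by
      intro p hp
      obtain ⟨f, hf, hfree, hrk⟩ := h p
      haveI : Nontrivial (Localization.Away f) := nontrivial_away hf
      exact ⟨f, hf, ⟨Module.finBasisOfFinrankEq _ _ hrk⟩⟩
    refine ⟨fun k hk => ideal_eq_bot_of_local _ fun p _ d hd => ?_, fun k hk => ?_⟩
    · obtain ⟨f, hf, ⟨b⟩⟩ := hb p
      obtain ⟨_, ⟨N, rfl⟩, e⟩ := killed_of_localization_bot (Submonoid.powers f)
        (by rw [ideal_of_basis b, if_neg (by omega)]) hd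
      exact ⟨_, fun hm => hf (Ideal.IsPrime.mem_of_pow_mem ‹_› N hm), e⟩
    · by_contra hne
      obtain ⟨m, hm, hle⟩ := Ideal.exists_le_maximal _ hne
      haveI := hm.isPrime
      obtain ⟨f, hf, ⟨b⟩⟩ := hb m
      refine (not_le_iff_away m k).2 ⟨f, hf, ?_⟩ hle
      refine ⟨fun i => if hi : (i : ℕ) < r then b ⟨i, hi⟩ else 0, top_unique (b.span_eq.ge.trans (Submodule.span_le.2 ?_))⟩
      rintro _ ⟨i, rfl⟩
      exact Submodule.subset_span ⟨⟨i, lt_of_lt_of_le i.2 hk⟩, by simp⟩
  · rintro ⟨h0, h1⟩ p hp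
    have h2 : ¬ Fitt.ideal R M r ≤ p := fun hle => hp.ne_top (top_unique (h1 r le_rfl ▸ hle))
    obtain ⟨f, hf, g, hg⟩ := (not_le_iff_away p r).1 h2
    haveI : Nontrivial (Localization.Away f) := nontrivial_away hf
    let b := Module.Basis.mk (linearIndependent_of_bot g hg fun k hk => by
      rw [map_ideal_localization, h0 k hk, Ideal.map_bot]) hg.ge
    exact ⟨f, hf, Module.Free.of_basis b, by rw [Module.finrank_eq_card_basis b, Fintype.card_fin]⟩

theorem projective_rank_iff [Module.FinitePresentation R M] (r : ℕ) :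
    (Module.Projective R M ∧ ∀ p : PrimeSpectrum R, Module.rankAtStalk M p = r) ↔
    ((∀ k, k < r → Fitt.ideal R M k = ⊥) ∧ Fitt.ideal R M r = ⊤) := by
  constructor
  · rintro ⟨hP, hr⟩
    have hb : ∀ (p : Ideal R) [p.IsPrime],
        Nonempty (Module.Basis (Fin r) (Localization.AtPrime p) (LocalizedModule p.primeCompl M)) := by
      intro p hp
      haveI : Module.Free (Localization.AtPrime p) (LocalizedModule p.primeCompl M) :=
        Module.free_of_flat_of_isLocalRing
      exact ⟨Module.finBasisOfFinrankEq _ _ (hr ⟨p, hp⟩)⟩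
    refine ⟨fun k hk => ideal_eq_bot_of_local _ fun p _ d hd => ?_, ?_⟩
    · obtain ⟨b⟩ := hb p
      exact killed_of_localization_bot p.primeCompl (by rw [ideal_of_basis b, if_neg (by omega)]) hd
    · by_contra hne
      obtain ⟨m, hm, hle⟩ := Ideal.exists_le_maximal _ hne
      haveI := hm.isPrime
      obtain ⟨b⟩ := hb m
      exact (not_le_iff_gens m r).2 ⟨b, b.span_eq⟩ hle
  · rintro ⟨h0, h1⟩
    have hb : ∀ (p : Ideal R) [p.IsPrime],
        Nonempty (Module.Basis (Fin r) (Localization.AtPrime p) (LocalizedModule p.primeCompl M)) := by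
      intro p hp
      obtain ⟨g, hg⟩ := (not_le_iff_gens p r).1 fun hle => hp.ne_top (top_unique (h1 ▸ hle))
      exact ⟨Module.Basis.mk (linearIndependent_of_bot g hg fun k hk => by
        rw [map_ideal_localization, h0 k hk, Ideal.map_bot]) hg.ge⟩
    refine ⟨Module.projective_of_localization_maximal fun I hI => ?_, fun p => ?_⟩
    · obtain ⟨b⟩ := hb I
      exact Module.Projective.of_basis b
    · obtain ⟨b⟩ := hb p.asIdeal
      exact (Module.finrank_eq_card_basis b).trans (Fintype.card_fin r)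

end Same

end Groth.L13.Fitting
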