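import Groth.Agent.L13.Fitting.BaseChange
import Mathlib.RingTheory.Localization.AtPrime.Basic
import Mathlib.RingTheory.Localization.BaseChange
import Mathlib.RingTheory.LocalRing.ResidueField.Ideal
import Mathlib.RingTheory.Ideal.Maps
import Mathlib.LinearAlgebra.Dimension.Finite

/-! Fitting ideals: Cramer, fibres, generation. -/

set_option autoImplicit false

universe u v w

open scoped Classical TensorProduct

namespace Groth.L13.Fitting

variable {R : Type u} [CommRing R] {M : Type v} [AddCommGroup M] [Module R M]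

/-- the minor of the relations `z` on the columns `e` -/
noncomputable def minor {n t : ℕ} (z : Fin t → Fin n → R) (e : Fin t → Fin n) : R :=
  (Matrix.of fun a b => z b (e a)).det

theorem minor_mem {n t : ℕ} {x : Fin n → M} {z : Fin t → Fin n → R} (hz : ∀ j, ∑ i, z j i • x i = 0)
    (e : Fin t → Fin n) : minor z e ∈ minors (R := R) x t :=
  Ideal.subset_span ⟨z, e, hz, rfl⟩

theorem minor_mem_ideal {n k : ℕ} {x : Fin n → M} (hx : Submodule.span R (Set.range x) = ⊤)
    {z : Fin (n - k) → Fin n → R} (hz : ∀ j, ∑ i, z j i • x i = 0) (e : Fin (n - k) → Fin n) :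
    minor z e ∈ Fitt.ideal R M k := by
  rw [ideal_eq_tup x hx, tup_eq_minors]; exact minor_mem hz e

/-- Cramer's rule -/
theorem cramer_rel {n t : ℕ} {x : Fin n → M} {z : Fin t → Fin n → R} (hz : ∀ j, ∑ i, z j i • x i = 0)
    (e : Fin t → Fin n) (a : Fin t) : ∑ i, minor z (Function.update e a i) • x i = 0 := by
  let A : Matrix (Fin t) (Fin t) R := Matrix.of fun b c => z b (e c)
  have h : ∀ i, minor z (Function.update e a i) = ∑ b, A.adjugate a b * z b i := by
    intro i
    have h1 : A.cramer (fun b => z b i) a = (A.updateCol a fun b => z b i).det := Matrix.cramer_apply _ _ _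
    rw [Matrix.cramer_eq_adjugate_mulVec] at h1
    rw [show ∑ b, A.adjugate a b * z b i = (A.adjugate.mulVec fun b => z b i) a from rfl, h1, minor,
      ← Matrix.det_transpose]
    congr 1
    ext b c
    rcases eq_or_ne c a with rfl | hne
    · simp
    · simp [A, hne]
  simp only [h, Finset.sum_smul, mul_smul]
  rw [Finset.sum_comm]
  refine Finset.sum_eq_zero fun b _ => ?_
  rw [← Finset.smul_sum, hz b, smul_zero]

theorem cramer_split {n t : ℕ} {x : Fin n → M} {z : Fin t → Fin n → R} (hz : ∀ j, ∑ i, z j i • x i = 0)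
    {e : Fin t → Fin n} (he : Function.Injective e) (a : Fin t) :
    minor z e • x (e a) +
      ∑ c ∈ Finset.univ.filter (fun c => c ∉ Set.range e), minor z (Function.update e a c) • x c = 0 := by
  have h := cramer_rel hz e a
  rw [← Finset.sum_filter_add_sum_filter_not Finset.univ (fun c => c ∈ Set.range e)] at h
  rw [Finset.sum_eq_single (e a) (fun c hc hca => ?_) (fun h' => absurd (by simp) h'),
    Function.update_eq_self] at h
  · exact h
  · obtain ⟨b, rfl⟩ := (Finset.mem_filter.1 hc).2
    have hba : b ≠ a := fun e' => hca (by rw [e'])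
    rw [minor, Matrix.det_zero_of_row_eq hba (funext fun l => by simp [hba]), zero_smul]

theorem card_compl_range {n t : ℕ} {e : Fin t → Fin n} (he : Function.Injective e) :
    (Finset.univ.filter fun c => c ∉ Set.range e).card = n - t := by
  rw [show (Finset.univ.filter fun c => c ∉ Set.range e) = (Finset.univ.image e)ᶜ by ext c; simp,
    Finset.card_compl, Finset.card_image_of_injective _ he]
  simp

theorem exists_fin_span (S : Finset M) {k : ℕ} (h : S.card ≤ k) :
    ∃ g : Fin k → M, (S : Set M) ⊆ Submodule.span R (Set.range g) := by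
  refine ⟨fun i => if hi : (i : ℕ) < S.card then (S.equivFin.symm ⟨i, hi⟩ : M) else 0, fun m hm => ?_⟩
  refine Submodule.subset_span ⟨⟨S.equivFin ⟨m, hm⟩, lt_of_lt_of_le (S.equivFin ⟨m, hm⟩).2 h⟩, ?_⟩
  simp

theorem gens_of_isUnit_minor {n k : ℕ} {x : Fin n → M} (hx : Submodule.span R (Set.range x) = ⊤)
    {z : Fin (n - k) → Fin n → R} (hz : ∀ j, ∑ i, z j i • x i = 0) {e : Fin (n - k) → Fin n}
    (hu : IsUnit (minor z e)) : ∃ g : Fin k → M, Submodule.span R (Set.range g) = ⊤ := by
  by_cases he : Function.Injective e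
  · obtain ⟨g, hg⟩ := exists_fin_span (R := R) ((Finset.univ.filter fun c => c ∉ Set.range e).image x) (k := k)
      (Finset.card_image_le.trans (by rw [card_compl_range he]; omega))
    refine ⟨g, top_unique (hx ▸ Submodule.span_le.2 ?_)⟩
    rintro _ ⟨i, rfl⟩
    by_cases hi : i ∈ Set.range e
    · obtain ⟨a, rfl⟩ := hi
      have h := cramer_split hz he a
      rw [SetLike.mem_coe, ← Submodule.smul_mem_iff_of_isUnit _ hu, eq_neg_of_add_eq_zero_left h]
      refine neg_mem (Submodule.sum_mem _ fun c hc => Submodule.smul_mem _ _ (hg ?_))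
      exact Finset.mem_image_of_mem x hc
    · exact hg (Finset.mem_image_of_mem x (by simpa using hi))
  · simp only [Function.Injective, not_forall] at he
    obtain ⟨i, j, hij, hne⟩ := he
    rw [minor, Matrix.det_zero_of_row_eq hne (funext fun b => by simp [hij])] at hu
    haveI : Subsingleton R := subsingleton_of_zero_eq_one (isUnit_zero_iff.1 hu)
    haveI : Subsingleton M := Module.subsingleton R M
    exact ⟨fun _ => 0, Subsingleton.elim _ _⟩

theorem ideal_eq_top_of_gens [Module.Finite R M] {k : ℕ} (g : Fin k → M)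
    (hg : Submodule.span R (Set.range g) = ⊤) {r : ℕ} (h : k ≤ r) : Fitt.ideal R M r = ⊤ := by
  rw [ideal_eq_tup g hg]; exact tup_eq_top g h

theorem exists_minor_notMem [Module.Finite R M] {k : ℕ} {p : Ideal R} (h : ¬ Fitt.ideal R M k ≤ p) :
    ∃ (n : ℕ) (x : Fin n → M) (z : Fin (n - k) → Fin n → R) (e : Fin (n - k) → Fin n),
      Submodule.span R (Set.range x) = ⊤ ∧ (∀ j, ∑ i, z j i • x i = 0) ∧ minor z e ∉ p := by
  obtain ⟨n, x, hx⟩ := exists_gens (R := R) (M := M)
  rw [ideal_eq_tup x hx, tup_eq_minors, minors, Ideal.span_le, Set.not_subset] at h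
  obtain ⟨_, ⟨z, e, hz, rfl⟩, hp⟩ := h
  exact ⟨n, x, z, e, hx, hz, hp⟩

theorem minor_phi (R' : Type w) [CommRing R'] [Algebra R R'] {n t : ℕ} (z : Fin t → Fin n → R) (e : Fin t → Fin n) :
    minor (fun j => phi R' (z j)) e = algebraMap R R' (minor z e) := by
  rw [minor, minor, RingHom.map_det]; rfl

/-- where a minor is inverted the module has few generators -/
theorem gens_baseChange_of_isUnit {n k : ℕ} {x : Fin n → M} (hx : Submodule.span R (Set.range x) = ⊤)
    {z : Fin (n - k) → Fin n → R} (hz : ∀ j, ∑ i, z j i • x i = 0) {e : Fin (n - k) → Fin n}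
    (R' : Type w) [CommRing R'] [Algebra R R'] (hu : IsUnit (algebraMap R R' (minor z e))) :
    ∃ g : Fin k → R' ⊗[R] M, Submodule.span R' (Set.range g) = ⊤ :=
  gens_of_isUnit_minor (span_bc R' x hx) (z := fun j => phi R' (z j))
    (fun j => mem_rel.1 (phi_mem_rel R' (mem_rel.2 (hz j)))) (e := e) (by rwa [minor_phi])

theorem ideal_eq_top_iff_local [IsLocalRing R] [Module.Finite R M] (k : ℕ) :
    Fitt.ideal R M k = ⊤ ↔ ∃ g : Fin k → M, Submodule.span R (Set.range g) = ⊤ := by
  refine ⟨fun h => ?_, fun ⟨g, hg⟩ => ideal_eq_top_of_gens g hg le_rfl⟩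
  obtain ⟨n, x, z, e, hx, hz, hp⟩ := exists_minor_notMem (R := R) (M := M) (k := k)
    (p := IsLocalRing.maximalIdeal R) (fun hle => (IsLocalRing.maximalIdeal.isMaximal R).ne_top
      (top_unique (h ▸ hle)))
  exact gens_of_isUnit_minor hx hz (of_not_not fun hn => hp ((IsLocalRing.mem_maximalIdeal _).2 hn))

theorem gens_equiv {R' : Type w} [CommRing R'] {N N' : Type v} [AddCommGroup N] [AddCommGroup N'] [Module R' N] [Module R' N']
    (e : N ≃ₗ[R'] N') {k : ℕ} (h : ∃ g : Fin k → N, Submodule.span R' (Set.range g) = ⊤) :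
    ∃ g : Fin k → N', Submodule.span R' (Set.range g) = ⊤ := by
  obtain ⟨g, hg⟩ := h
  refine ⟨e ∘ g, ?_⟩
  rw [Set.range_comp]
  exact (Submodule.span_image e.toLinearMap).trans (by rw [hg, Submodule.map_top, LinearMap.range_eq_top.2 e.surjective])

section Prime

variable {R : Type u} [CommRing R] {M : Type u} [AddCommGroup M] [Module R M] [Module.Finite R M]
variable (p : Ideal R) [p.IsPrime] (k : ℕ)

theorem not_le_iff_localization : ¬ Fitt.ideal R M k ≤ p ↔
    ∃ g : Fin k → Localization.AtPrime p ⊗[R] M, Submodule.span (Localization.AtPrime p) (Set.range g) = ⊤ := by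
  rw [← ideal_eq_top_iff_local, ideal_baseChange, not_iff_comm.1]
  rw [← ne_eq, IsLocalization.map_algebraMap_ne_top_iff_disjoint p.primeCompl]
  exact ⟨fun h => fun x hx => by_contra fun hxp => Set.disjoint_left.1 h hxp hx,
    fun h => Set.disjoint_left.2 fun x hxp hx => hxp (h hx)⟩

theorem not_le_iff_finrank : ¬ Fitt.ideal R M k ≤ p ↔ Module.finrank p.ResidueField (p.ResidueField ⊗[R] M) ≤ k := by
  have h1 : Fitt.ideal R M k ≤ p ↔ Fitt.ideal p.ResidueField (p.ResidueField ⊗[R] M) k = ⊥ := by
    rw [ideal_baseChange, Ideal.map_eq_bot_iff_le_ker, Ideal.ker_algebraMap_residueField]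
  rw [h1]
  refine ⟨fun h => ?_, fun h hbot => ?_⟩
  · obtain ⟨g, hg⟩ := (ideal_eq_top_iff_local k).1 ((Ideal.eq_bot_or_top _).resolve_left h)
    have := finrank_range_le_card (R := p.ResidueField) g
    rw [Set.finrank, hg, finrank_top, Fintype.card_fin] at this
    exact this
  · let b := Module.finBasis p.ResidueField (p.ResidueField ⊗[R] M)
    rw [ideal_eq_top_of_gens b b.span_eq h] at hbot
    exact top_ne_bot hbot

end Prime

end Groth.L13.Fitting
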