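import Groth.Agent.L13.Fitting.Basic
import Mathlib.RingTheory.FinitePresentation
import Mathlib.Algebra.Module.FinitePresentation
import Mathlib.Data.Fintype.Pi

/-! Fitting ideals: minors, multilinearity, functoriality. -/

set_option autoImplicit false

universe u v w

open scoped Classical

namespace Groth.L13.Fitting

variable {R : Type u} [CommRing R] {M : Type v} [AddCommGroup M] [Module R M]

/-- the minors of relations -/
noncomputable def minors {n : ℕ} (x : Fin n → M) (t : ℕ) : Ideal R :=
  Ideal.span {d | ∃ (z : Fin t → (Fin n → R)) (e : Fin t → Fin n),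
      (∀ j, ∑ i, z j i • x i = 0) ∧ d = (Matrix.of fun a b => z b (e a)).det}

theorem det_mem_minors {n : ℕ} {x : Fin n → M} (s : ℕ) : ∀ {t : ℕ} (z : Fin t → (Fin n → R)) (e : Fin t → Fin n),
    s ≤ t → (bad x z).card + s ≤ t → (Matrix.of fun a b => z a (e b)).det ∈ minors (R := R) x s
  | 0, z, e, hs, _ => by
    obtain rfl : s = 0 := by omega
    refine Ideal.subset_span ⟨z, e, fun j => j.elim0, ?_⟩
    rw [Matrix.det_fin_zero, Matrix.det_fin_zero]
  | t + 1, z, e, hs, hb => by
    rcases eq_or_lt_of_le hs with rfl | hlt
    · refine Ideal.subset_span ⟨z, e, fun j => ?_, (Matrix.det_transpose _).symm⟩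
      have h : (bad x z).card = 0 := by omega
      rw [Finset.card_eq_zero] at h
      by_contra hne
      have : j ∈ bad x z := Finset.mem_filter.2 ⟨Finset.mem_univ _, fun hz => hne (mem_rel.1 hz)⟩
      rw [h] at this
      exact Finset.notMem_empty _ this
    · obtain ⟨i, hi⟩ : ∃ i : Fin (t + 1), (bad x z).card ≠ 0 → i ∈ bad x z := by
        rcases (bad x z).eq_empty_or_nonempty with h | ⟨i, hi⟩
        · exact ⟨0, fun hne => absurd (by rw [h]; rfl) hne⟩
        · exact ⟨i, fun _ => hi⟩
      rw [Matrix.det_succ_row _ i]
      refine Submodule.sum_mem _ fun j _ => Ideal.mul_mem_left _ _ ?_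
      refine det_mem_minors s (fun a => z (i.succAbove a)) (fun b => e (j.succAbove b)) (by omega) ?_
      have h1 : (bad x fun a => z (i.succAbove a)).card ≤ ((bad x z).erase i).card := by
        refine Finset.card_le_card_of_injOn i.succAbove (fun l hl => ?_) Fin.succAbove_right_injective.injOn
        simp only [bad, Finset.coe_filter, Finset.mem_univ, true_and, Set.mem_setOf_eq] at hl
        simp only [Finset.coe_erase, Set.mem_sdiff, Finset.mem_coe, bad, Finset.mem_filter, Finset.mem_univ,
          true_and, Set.mem_singleton_iff]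
        exact ⟨hl, Fin.succAbove_ne i l⟩
      by_cases hc : (bad x z).card = 0
      · have : ((bad x z).erase i).card ≤ (bad x z).card := Finset.card_erase_le
        omega
      · rw [Finset.card_erase_of_mem (hi hc)] at h1
        omega

theorem tup_eq_minors {n : ℕ} (x : Fin n → M) (r : ℕ) : tup R x r = minors (R := R) x (n - r) := by
  refine le_antisymm (Ideal.span_le.2 ?_) (Ideal.span_le.2 ?_)
  · rintro _ ⟨a, ha, rfl⟩
    have hb : (bad x a).card ≤ n := (Finset.card_le_univ _).trans (by simp)
    exact det_mem_minors (n - r) a id (Nat.sub_le n r) (by omega)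
  · rintro _ ⟨z, e, hz, rfl⟩
    by_cases he : Function.Injective e
    · let C := {c : Fin n // c ∉ Set.range e}
      let σ : Fin (n - r) ⊕ C ≃ Fin n := (Equiv.sumCongr (Equiv.ofInjective e he) (Equiv.refl _)).trans
        (Equiv.sumCompl (fun c => c ∈ Set.range e))
      let rows : Fin (n - r) ⊕ C → Fin n → R := Sum.elim z (fun c => Pi.single c.1 1)
      let a : Matrix (Fin n) (Fin n) R := fun i => rows (σ.symm i)
      have hl : ∀ l, σ (Sum.inl l) = e l := fun l => rfl
      have hr : ∀ c : C, σ (Sum.inr c) = c.1 := fun c => rfl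
      have hdet : (Matrix.of fun a b => z b (e a)).det = a.det := by
        rw [← Matrix.det_transpose, ← Matrix.det_submatrix_equiv_self σ a]
        have hfb : a.submatrix σ σ = Matrix.fromBlocks (Matrix.of fun a b => z a (e b))
            (Matrix.of fun a (c : C) => z a c.1) 0 1 := by
          ext i j
          rcases i with i | i <;> rcases j with j | j
          · simp [a, rows, hl]
            rw [← hl i, Equiv.symm_apply_apply]; rfl
          · simp [a, rows, hl, hr]
            rw [← hl i, Equiv.symm_apply_apply]; rfl
          · have : e j ≠ i.1 := fun h => i.2 ⟨j, h⟩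
            simp [a, rows, hl, hr]
            rw [← hr i, Equiv.symm_apply_apply]; simp [this]
          · simp [a, rows, hr]
            rw [← hr i, Equiv.symm_apply_apply]; simp [Pi.single_apply, Matrix.one_apply, eq_comm]; exact if_congr Subtype.ext_iff.symm rfl rfl
        rw [hfb, Matrix.det_fromBlocks_zero₂₁, Matrix.det_one, mul_one]
        rfl
      rw [SetLike.mem_coe, hdet]
      refine det_mem_tup a ?_
      refine le_trans (Finset.card_le_card_of_injOn σ.symm (t := (Finset.univ : Finset C).map Function.Embedding.inr)
        (fun i hi => ?_) σ.symm.injective.injOn) ?_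
      · simp only [bad, Finset.coe_filter, Finset.mem_univ, true_and, Set.mem_setOf_eq, mem_rel, a] at hi
        rcases h : σ.symm i with l | c
        · rw [h] at hi; exact absurd (hz l) hi
        · simp
      · rw [Finset.card_map, Finset.card_univ]
        have h1 : Fintype.card C = n - (n - r) := by
          have := Fintype.card_congr σ
          rw [Fintype.card_sum, Fintype.card_fin, Fintype.card_fin] at this
          omega
        omega
    · simp only [Function.Injective, not_forall] at he
      obtain ⟨i, j, hij, hne⟩ := he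
      rw [SetLike.mem_coe, Matrix.det_zero_of_row_eq hne (funext fun b => by simp [hij])]
      exact zero_mem _

/-- multilinearity of the determinant -/
theorem det_mem_of_rows {ι : Type w} [Fintype ι] [DecidableEq ι] (I : Ideal R) (S : ι → Set (ι → R))
    (h : ∀ b : Matrix ι ι R, (∀ i, b i ∈ S i) → b.det ∈ I) (a : Matrix ι ι R)
    (ha : ∀ i, a i ∈ Submodule.span R (S i)) : a.det ∈ I := by
  suffices H : ∀ (s : Finset ι) (a : Matrix ι ι R), (∀ i ∈ s, a i ∈ Submodule.span R (S i)) →
      (∀ i ∉ s, a i ∈ S i) → a.det ∈ I from
    H Finset.univ a (fun i _ => ha i) (fun i hi => absurd (Finset.mem_univ i) hi)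
  intro s
  induction s using Finset.induction with
  | empty => exact fun a _ h2 => h a fun i => h2 i (Finset.notMem_empty i)
  | insert i s his ih =>
    intro a h1 h2
    have key : ∀ v ∈ Submodule.span R (S i), (a.updateRow i v).det ∈ I := by
      intro v hv
      induction hv using Submodule.span_induction with
      | mem v hv =>
        refine ih _ (fun j hj => ?_) (fun j hj => ?_)
        · rw [Matrix.updateRow_ne (fun hji : j = i => his (hji ▸ hj))]; exact h1 j (Finset.mem_insert_of_mem hj)
        · rcases eq_or_ne j i with rfl | hne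
          · rw [Matrix.updateRow_self]; exact hv
          · rw [Matrix.updateRow_ne hne]; exact h2 j (by simp [hne, hj])
      | zero => rw [Matrix.det_eq_zero_of_row_eq_zero i fun j => by simp]; exact zero_mem _
      | add u v _ _ hu hv => rw [Matrix.det_updateRow_add]; exact add_mem hu hv
      | smul c u _ hu => rw [Matrix.det_updateRow_smul]; exact Ideal.mul_mem_left _ _ hu
    have := key (a i) (h1 i (Finset.mem_insert_self _ _))
    rwa [Matrix.updateRow_eq_self] at this

theorem tup_mono_map {n : ℕ} {N : Type w} [AddCommGroup N] [Module R N] (x : Fin n → M) (f : M →ₗ[R] N) (r : ℕ) :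
    tup R x r ≤ tup R (f ∘ x) r := by
  refine Ideal.span_le.2 ?_
  rintro _ ⟨a, ha, rfl⟩
  refine det_mem_tup a (le_trans (Finset.card_le_card fun i hi => ?_) ha)
  simp only [bad, Finset.mem_filter, Finset.mem_univ, true_and, mem_rel] at hi ⊢
  intro h
  apply hi
  simpa [map_sum, map_smul] using congrArg f h

theorem ideal_mono_surjective {N : Type w} [AddCommGroup N] [Module R N] [Module.Finite R M] (f : M →ₗ[R] N)
    (hf : Function.Surjective f) (r : ℕ) : Fitt.ideal R M r ≤ Fitt.ideal R N r := by
  obtain ⟨n, x, hx⟩ := exists_gens (R := R) (M := M)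
  have hy : Submodule.span R (Set.range (f ∘ x)) = ⊤ := by
    rw [Set.range_comp, Submodule.span_image, hx, Submodule.map_top, LinearMap.range_eq_top.2 hf]
  rw [ideal_eq_tup x hx, ideal_eq_tup (f ∘ x) hy]
  exact tup_mono_map x f r

theorem ideal_congr {N : Type w} [AddCommGroup N] [Module R N] [Module.Finite R M] (e : M ≃ₗ[R] N) (r : ℕ) :
    Fitt.ideal R M r = Fitt.ideal R N r := by
  haveI := Module.Finite.equiv e
  exact le_antisymm (ideal_mono_surjective e.toLinearMap e.surjective r)
    (ideal_mono_surjective e.symm.toLinearMap e.symm.surjective r)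

theorem ideal_mono [Module.Finite R M] {r s : ℕ} (h : r ≤ s) : Fitt.ideal R M r ≤ Fitt.ideal R M s := by
  obtain ⟨n, x, hx⟩ := exists_gens (R := R) (M := M)
  rw [ideal_eq_tup x hx, ideal_eq_tup x hx]
  exact tup_mono x h

theorem ideal_fg_of_finitePresentation [Module.FinitePresentation R M] (r : ℕ) : (Fitt.ideal R M r).FG := by
  obtain ⟨n, x, hx⟩ := exists_gens (R := R) (M := M)
  have hK : (rel (R := R) x).FG := Module.FinitePresentation.fg_ker _ (by
    rw [← LinearMap.range_eq_top, Fintype.range_linearCombination, hx])
  obtain ⟨G, hG⟩ := hK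
  rw [ideal_eq_tup x hx]
  let U : Finset (Fin n → R) := Finset.univ.image (fun i => Pi.single i 1)
  let T : Finset (Matrix (Fin n) (Fin n) R) :=
    (Fintype.piFinset (fun _ : Fin n => G ∪ U)).filter fun a => (bad x a).card ≤ r
  refine ⟨T.image Matrix.det, le_antisymm (Submodule.span_le.2 ?_) (Ideal.span_le.2 ?_)⟩
  · intro d hd
    simp only [Finset.coe_image, Set.mem_image, Finset.mem_coe, T, Finset.mem_filter] at hd
    obtain ⟨a, ⟨-, ha⟩, rfl⟩ := hd
    exact det_mem_tup a ha
  · rintro _ ⟨a, ha, rfl⟩
    refine det_mem_of_rows _ (fun i => if i ∈ bad x a then (U : Set (Fin n → R)) else (G : Set (Fin n → R)))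
      (fun b hb => ?_) a (fun i => ?_)
    · refine Submodule.subset_span ?_
      simp only [Finset.coe_image, Set.mem_image, Finset.mem_coe, T, Finset.mem_filter, Fintype.mem_piFinset,
        Finset.mem_union]
      refine ⟨b, ⟨Fintype.mem_piFinset.2 fun i => Finset.mem_union.2 ?_, le_trans (Finset.card_le_card fun i hi => ?_) ha⟩, rfl⟩
      · have := hb i; split_ifs at this with h
        · exact Or.inr this
        · exact Or.inl this
      · by_contra h
        have := hb i; rw [if_neg h] at this
        exact (Finset.mem_filter.1 hi).2 (hG ▸ Submodule.subset_span this)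
    · split_ifs with h
      · rw [show a i = ∑ j, a i j • (Pi.single j 1 : Fin n → R) from (pi_eq_sum_univ' _)]
        exact Submodule.sum_mem _ fun j _ => Submodule.smul_mem _ _ (Submodule.subset_span (by simp [U]))
      · have h2 : a i ∈ rel (R := R) x := by
          by_contra h2; exact h (Finset.mem_filter.2 ⟨Finset.mem_univ _, h2⟩)
        rwa [← hG] at h2

end Groth.L13.Fitting
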