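import Groth.Agent.L13.Fitting.LocFree
import Mathlib.RingTheory.LocalProperties.FinitePresentation
import Mathlib.Algebra.Module.Projective
import Mathlib.LinearAlgebra.Projection

/-! Fitting ideals modulo the torsion of a nonzerodivisor generating them. -/

set_option autoImplicit false

universe u v w

open scoped Classical

namespace Groth.L13.Fitting

variable {R : Type u} [CommRing R] {M : Type u} [AddCommGroup M] [Module R M]

/-- where the minors of some relations generate a divisorial ideal the quotient by torsion has few generators -/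
theorem ideal_quotient_eq_top {n k : ℕ} {x : Fin n → M} (hx : Submodule.span R (Set.range x) = ⊤)
    (Z : Set (Fin (n - k) → Fin n → R)) (hZ : ∀ z ∈ Z, ∀ j, ∑ i, z j i • x i = 0)
    (g a : R) (ha : a ∈ nonZeroDivisors R)
    (hle : ∀ z ∈ Z, ∀ e : Fin (n - k) → Fin n, g * minor z e ∈ Ideal.span {a})
    (hge : a ∈ Ideal.span {d | ∃ z ∈ Z, ∃ e : Fin (n - k) → Fin n, d = g * minor z e})
    (T : Submodule R M) (hT : ∀ m, a • m = 0 → m ∈ T) : Fitt.ideal R (M ⧸ T) k = ⊤ := by
  have hy : Submodule.span R (Set.range (T.mkQ ∘ x)) = ⊤ := by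
    rw [Set.range_comp, Submodule.span_image, hx, Submodule.map_top, Submodule.range_mkQ]
  by_contra hne
  obtain ⟨Q, hQ, hFQ⟩ := Ideal.exists_le_maximal _ hne
  haveI := hQ.isPrime
  obtain ⟨z, hz, e, c, hc, hcQ⟩ : ∃ z ∈ Z, ∃ (e : Fin (n - k) → Fin n) (c : R), g * minor z e = a * c ∧ c ∉ Q := by
    by_contra hall
    push Not at hall
    have h1 : Ideal.span {d | ∃ z ∈ Z, ∃ e : Fin (n - k) → Fin n, d = g * minor z e} ≤ Ideal.span {a} * Q := by
      refine Ideal.span_le.2 ?_
      rintro _ ⟨z, hz, e, rfl⟩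
      obtain ⟨c, hc⟩ := Ideal.mem_span_singleton'.1 (hle z hz e)
      exact Ideal.mem_span_singleton_mul.2 ⟨c, hall z hz e c (hc.symm.trans (mul_comm c a)), (mul_comm a c).trans hc⟩
    obtain ⟨c, hcQ, hca⟩ := Ideal.mem_span_singleton_mul.1 (h1 hge)
    have : c = 1 := (mul_cancel_left_mem_nonZeroDivisors ha).1 (hca.trans (mul_one a).symm)
    exact hQ.ne_top ((Ideal.eq_top_iff_one _).2 (this ▸ hcQ))
  by_cases he : Function.Injective e
  swap
  · simp only [Function.Injective, not_forall] at he
    obtain ⟨i, j, hij, hne'⟩ := he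
    rw [minor, Matrix.det_zero_of_row_eq hne' (funext fun b => by simp [hij]), mul_zero] at hc
    exact hcQ ((ha.1 c hc.symm).symm ▸ Q.zero_mem)
  choose b hb using fun (p : (Fin (n - k)) × Fin n) =>
    Ideal.mem_span_singleton'.1 (hle z hz (Function.update e p.1 p.2))
  let w : Fin (n - k) → Fin n → R := fun s i => if i = e s then c else if i ∈ Set.range e then 0 else b (s, i)
  have hw : ∀ s, ∑ i, w s i • (T.mkQ ∘ x) i = 0 := by
    intro s
    rw [show ∑ i, w s i • (T.mkQ ∘ x) i = T.mkQ (∑ i, w s i • x i) by simp [map_sum],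
      Submodule.mkQ_apply, Submodule.Quotient.mk_eq_zero]
    refine hT _ ?_
    have h := congrArg (g • ·) (cramer_split (hZ z hz) he s)
    simp only [smul_add, Finset.smul_sum, smul_smul, smul_zero, hc] at h
    rw [← h, Finset.smul_sum, ← Finset.sum_filter_add_sum_filter_not Finset.univ (fun i => i ∈ Set.range e)]
    congr 1
    · rw [Finset.sum_eq_single (e s) (fun i hi his => ?_) (fun h' => absurd (by simp) h')]
      · simp [w, smul_smul]
      · obtain ⟨q, rfl⟩ := (Finset.mem_filter.1 hi).2; simp [w, his]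
    · refine Finset.sum_congr rfl fun i hi => ?_
      have hi' := (Finset.mem_filter.1 hi).2
      rw [show w s i = b (s, i) by
        simp only [w]; rw [if_neg (fun h' : i = e s => hi' ⟨s, h'.symm⟩), if_neg hi'], smul_smul,
        mul_comm a, hb]
  have hm : minor w e = c ^ (n - k) := by
    have hd : (Matrix.of fun p q => w q (e p)) = Matrix.diagonal fun _ => c := by
      ext p q
      rcases eq_or_ne p q with rfl | hne'
      · simp [w]
      · simp [w, he.ne hne', hne']
    rw [minor, hd, Matrix.det_diagonal]; simp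
  exact hcQ (hQ.isPrime.mem_of_pow_mem _ (hFQ (hm ▸ minor_mem_ideal hy hw e)))

theorem ideal_quotient_eq_top' [Module.Finite R M] {k : ℕ} {a : R} (ha : a ∈ nonZeroDivisors R)
    (hF : Fitt.ideal R M k = Ideal.span {a}) (T : Submodule R M) (hT : ∀ m, a • m = 0 → m ∈ T) :
    Fitt.ideal R (M ⧸ T) k = ⊤ := by
  obtain ⟨n, x, hx⟩ := exists_gens (R := R) (M := M)
  refine ideal_quotient_eq_top hx {z | ∀ j, ∑ i, z j i • x i = 0} (fun z hz => hz) 1 a ha
    (fun z hz e => by rw [one_mul, ← hF]; exact minor_mem_ideal hx hz e) ?_ T hT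
  have h : a ∈ Fitt.ideal R M k := hF ▸ Ideal.mem_span_singleton_self a
  rw [ideal_eq_tup x hx, tup_eq_minors, minors] at h
  refine Ideal.span_mono ?_ h
  rintro _ ⟨z, e, hz, rfl⟩
  exact ⟨z, hz, e, (one_mul _).symm⟩

theorem ideal_quotient_eq_bot [Module.Finite R M] {r : ℕ} {a : R} (ha : a ∈ nonZeroDivisors R)
    (hF : Fitt.ideal R M r = ⊥) (T : Submodule R M) (hT : ∀ m ∈ T, ∃ N : ℕ, a ^ N • m = 0) :
    Fitt.ideal R (M ⧸ T) r = ⊥ := by
  obtain ⟨n, x, hx⟩ := exists_gens (R := R) (M := M)
  have hy : Submodule.span R (Set.range (T.mkQ ∘ x)) = ⊤ := by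
    rw [Set.range_comp, Submodule.span_image, hx, Submodule.map_top, Submodule.range_mkQ]
  rw [ideal_eq_tup _ hy]
  refine le_bot_iff.1 (Ideal.span_le.2 ?_)
  rintro _ ⟨b, hb, rfl⟩
  have hN : ∀ i, ∃ N : ℕ, i ∉ bad (T.mkQ ∘ x) b → a ^ N • (∑ l, b i l • x l) = 0 := by
    intro i
    by_cases hi : i ∈ bad (T.mkQ ∘ x) b
    · exact ⟨0, fun h => absurd hi h⟩
    · have h2 : b i ∈ rel (R := R) (T.mkQ ∘ x) := by_contra fun h2 => hi (Finset.mem_filter.2 ⟨Finset.mem_univ _, h2⟩)
      rw [mem_rel, show ∑ l, b i l • (T.mkQ ∘ x) l = T.mkQ (∑ l, b i l • x l) by simp [map_sum],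
        Submodule.mkQ_apply, Submodule.Quotient.mk_eq_zero] at h2
      obtain ⟨N, hN⟩ := hT _ h2
      exact ⟨N, fun _ => hN⟩
  choose N hN using hN
  let b' : Matrix (Fin n) (Fin n) R := Matrix.diagonal (fun i => a ^ N i) * b
  have hmem : b'.det ∈ Fitt.ideal R M r := by
    rw [ideal_eq_tup x hx]
    refine det_mem_tup b' (le_trans (Finset.card_le_card fun i hi => ?_) hb)
    by_contra h
    refine (Finset.mem_filter.1 hi).2 ?_
    rw [mem_rel, ← hN i h, Finset.smul_sum]
    refine Finset.sum_congr rfl fun l _ => ?_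
    simp [b', Matrix.diagonal_mul, smul_smul]
  rw [hF, Ideal.mem_bot, Matrix.det_mul, Matrix.det_diagonal, mul_comm] at hmem
  rw [SetLike.mem_coe, Ideal.mem_bot]
  exact (prod_mem fun i _ => pow_mem ha (N i) : ∏ i, a ^ N i ∈ nonZeroDivisors R).2 _ (by rwa [mul_comm] at hmem ⊢)

/-- locally free of rank `k` from the Fitting ideals -/
theorem finitePresentation_of_conditions [Module.Finite R M] {k : ℕ} (h0 : ∀ r, r < k → Fitt.ideal R M r = ⊥)
    (h1 : Fitt.ideal R M k = ⊤) : Module.FinitePresentation R M := by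
  have hloc := (locallyFree_iff (R := R) (M := M) k).2 ⟨h0, fun r hr => top_unique (h1.ge.trans (ideal_mono hr))⟩
  refine Module.FinitePresentation.of_localizationSpan
    {f : R | Module.Free (Localization.Away f) (LocalizedModule (Submonoid.powers f) M)} ?_ fun f => ?_
  · by_contra hne
    obtain ⟨Q, hQ, hle⟩ := Ideal.exists_le_maximal _ hne
    haveI := hQ.isPrime
    obtain ⟨f, hf, hfree, -⟩ := hloc Q
    exact hf (hle (Ideal.subset_span hfree))
  · haveI : Module.Free (Localization.Away f.1) (LocalizedModule (Submonoid.powers f.1) M) := f.2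
    haveI : Module.Finite (Localization.Away f.1) (LocalizedModule (Submonoid.powers f.1) M) :=
      Module.Finite.of_isLocalizedModule (Submonoid.powers f.1) (LocalizedModule.mkLinearMap (Submonoid.powers f.1) M)
    exact Module.finitePresentation_of_projective _ _

theorem projective_of_conditions [Module.Finite R M] {k : ℕ} (h0 : ∀ r, r < k → Fitt.ideal R M r = ⊥)
    (h1 : Fitt.ideal R M k = ⊤) : Module.Projective R M := by
  haveI := finitePresentation_of_conditions h0 h1
  exact ((projective_rank_iff k).2 ⟨h0, h1⟩).1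

theorem minor_eq_det_transpose {n t : ℕ} (z : Fin t → Fin n → R) (e : Fin t → Fin n) :
    minor z e = (Matrix.of fun p q => z p (e q)).det := (Matrix.det_transpose _).symm

/-- where a minor is `a` times a unit the relations are free on it -/
theorem rel_split {n k : ℕ} {x : Fin n → M} (hx : Submodule.span R (Set.range x) = ⊤) [Module.Finite R M]
    {a : R} (ha : a ∈ nonZeroDivisors R) (hF : Fitt.ideal R M k = Ideal.span {a})
    (hk : k = 0 ∨ Fitt.ideal R M (k - 1) = ⊥)
    {z : Fin (n - k) → Fin n → R} (hz : ∀ j, ∑ i, z j i • x i = 0) {e : Fin (n - k) → Fin n}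
    (he : Function.Injective e) {c : R} (hc : minor z e = a * c) :
    ∃ (φ : rel (R := R) x →ₗ[R] (Fin (n - k) → R)) (ψ : (Fin (n - k) → R) →ₗ[R] rel (R := R) x),
      ψ.comp φ = c ^ 2 • LinearMap.id := by
  let A : Matrix (Fin (n - k)) (Fin (n - k)) R := Matrix.of fun p q => z q (e p)
  have hA : A.det = a * c := hc
  have hd : ∀ (w : rel (R := R) x) (q : Fin (n - k)), ∃ d, a * d = A.cramer (fun p => w.1 (e p)) q := by
    intro w q
    let z' : Fin (n - k) → Fin n → R := Function.update z q w.1
    have hz' : ∀ j, ∑ i, z' j i • x i = 0 := fun j => by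
      rcases eq_or_ne j q with rfl | hj
      · simpa [z'] using mem_rel.1 w.2
      · simpa [z', hj] using hz j
    have h1 : minor z' e = A.cramer (fun p => w.1 (e p)) q := by
      rw [Matrix.cramer_apply, minor]
      congr 1
      ext p r
      rcases eq_or_ne r q with rfl | hr
      · simp [z']
      · simp [z', A, hr]
    obtain ⟨d, hd⟩ := Ideal.mem_span_singleton'.1 (hF ▸ minor_mem_ideal hx hz' e : minor z' e ∈ Ideal.span {a})
    exact ⟨d, by rw [mul_comm, hd, h1]⟩
  choose d hd using hd
  have hlin : ∀ {u v : R}, a * u = a * v → u = v := fun {u v} h => (mul_cancel_left_mem_nonZeroDivisors ha).1 h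
  let φ : rel (R := R) x →ₗ[R] (Fin (n - k) → R) :=
    { toFun := fun w q => c * d w q
      map_add' := fun v w => funext fun q => hlin (by
        have e1 : (fun p => (v + w : rel (R := R) x).1 (e p)) = (fun p => v.1 (e p)) + fun p => w.1 (e p) := rfl
        simp only [Pi.add_apply]
        rw [← mul_add, mul_left_comm, hd, mul_left_comm a c, mul_add a, hd, hd, e1, map_add, Pi.add_apply])
      map_smul' := fun s w => funext fun q => hlin (by
        have e1 : (fun p => (s • w : rel (R := R) x).1 (e p)) = s • fun p => w.1 (e p) := rfl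
        simp only [Pi.smul_apply, RingHom.id_apply, smul_eq_mul]
        rw [mul_left_comm, hd, mul_left_comm a s, mul_left_comm a c, hd, e1, map_smul, Pi.smul_apply, smul_eq_mul]
        ring) }
  let ψ : (Fin (n - k) → R) →ₗ[R] rel (R := R) x :=
    Fintype.linearCombination R fun q => (⟨z q, mem_rel.2 (hz q)⟩ : rel (R := R) x)
  refine ⟨φ, ψ, LinearMap.ext fun w => Subtype.ext (funext fun i => ?_)⟩
  -- the defect relation
  let u : Fin n → R := fun i => a * c * w.1 i - ∑ q, a * d w q * z q i
  have hu : ∑ i, u i • x i = 0 := by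
    have hu' : u ∈ rel (R := R) x := by
      rw [show u = (a * c) • w.1 - ∑ q, (a * d w q) • z q by funext i; simp [u, Finset.sum_apply]]
      exact sub_mem (Submodule.smul_mem _ _ w.2) (Submodule.sum_mem _ fun q _ => Submodule.smul_mem _ _ (mem_rel.2 (hz q)))
    exact mem_rel.1 hu'
  have hue : ∀ p, u (e p) = 0 := fun p => by
    have h := congrFun (Matrix.mulVec_cramer A (fun p => w.1 (e p))) p
    simp only [Matrix.mulVec, dotProduct, Pi.smul_apply, smul_eq_mul, hA] at h
    simp only [u, ← h]
    rw [sub_eq_zero]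
    exact Finset.sum_congr rfl fun q _ => by rw [← hd]; simp [A]; ring
  have hcu : c * u i = 0 := by
    by_cases hi : i ∈ Set.range e
    · obtain ⟨p, rfl⟩ := hi; rw [hue, mul_zero]
    rcases hk with rfl | hk
    · exact absurd (((Fintype.bijective_iff_injective_and_card e).2 ⟨he, by simp⟩).surjective i) hi
    let zz : Fin (n - k + 1) → Fin n → R := Fin.snoc z u
    let ee : Fin (n - k + 1) → Fin n := Fin.snoc e i
    have hb : (bad x zz).card = 0 := by
      rw [Finset.card_eq_zero, bad, Finset.filter_eq_empty_iff]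
      intro j _
      rw [not_not, mem_rel]
      induction j using Fin.lastCases with
      | last => simpa [zz] using hu
      | cast j => simpa [zz] using hz j
    have hmem := det_mem_minors (x := x) (n - (k - 1)) zz ee (by omega) (by omega)
    rw [← tup_eq_minors, ← ideal_eq_tup x hx, hk, Ideal.mem_bot] at hmem
    have hdet : (Matrix.of fun p q => zz p (ee q)).det = a * c * u i := by
      rw [Matrix.det_succ_row _ (Fin.last _), Finset.sum_eq_single (Fin.last _) (fun j _ hj => ?_) (by simp)]
      · have hsub : ((Matrix.of fun p q => zz p (ee q)).submatrix (Fin.last (n - k)).succAbove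
            (Fin.last (n - k)).succAbove) = Matrix.of fun p q => z p (e q) := by
          ext p q; simp [zz, ee, Fin.succAbove_last]
        rw [hsub, ← minor_eq_det_transpose, hc, Even.neg_one_pow ⟨_, rfl⟩]
        simp [zz, ee, mul_comm]
      · obtain ⟨p, rfl⟩ := Fin.eq_castSucc_of_ne_last hj
        simp [zz, ee, hue]
    rw [hdet, mul_assoc] at hmem
    exact (mul_cancel_left_mem_nonZeroDivisors ha).1 (hmem.trans (mul_zero a).symm)
  have hfin : a * ((ψ (φ w)).1 i) = a * (c ^ 2 * w.1 i) := by
    have hsum : (ψ (φ w)).1 i = ∑ q, c * d w q * z q i := by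
      simp [ψ, φ, Fintype.linearCombination_apply, Submodule.coe_sum, Finset.sum_apply]
    rw [hsum]
    have : c * u i = a * (c ^ 2 * w.1 i) - a * ∑ q, c * d w q * z q i := by
      simp only [u, mul_sub, Finset.mul_sum]
      congr 1
      · ring
      · exact Finset.sum_congr rfl fun q _ => by ring
    rw [hcu] at this
    exact (sub_eq_zero.1 this.symm).symm
  have := (mul_cancel_left_mem_nonZeroDivisors ha).1 hfin
  simpa using this

/-- `f` factors through a projective module -/
def ProjFactor (f : R) (P : Type u) [AddCommGroup P] [Module R P] : Prop :=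
  ∃ (F : Type u) (_ : AddCommGroup F) (_ : Module R F) (_ : Module.Projective R F) (φ : P →ₗ[R] F) (ψ : F →ₗ[R] P),
    ψ.comp φ = f • LinearMap.id

theorem projective_of_projFactor (P : Type u) [AddCommGroup P] [Module R P] (S : Set R) (hS : Ideal.span S = ⊤)
    (h : ∀ f ∈ S, ProjFactor f P) : Module.Projective R P := by
  have h1 : ∀ f ∈ Ideal.span S, ProjFactor f P := by
    intro f hf
    induction hf using Submodule.span_induction with
    | mem f hf => exact h f hf
    | zero =>
      exact ⟨PUnit, inferInstance, inferInstance, inferInstance, 0, 0, by simp⟩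
    | add f g _ _ hf hg =>
      obtain ⟨F, _, _, _, φ, ψ, e⟩ := hf
      obtain ⟨G, _, _, _, φ', ψ', e'⟩ := hg
      exact ⟨F × G, inferInstance, inferInstance, inferInstance, φ.prod φ', ψ.coprod ψ',
        by rw [LinearMap.coprod_comp_prod, e, e', add_smul]⟩
    | smul s f _ hf =>
      obtain ⟨F, _, _, _, φ, ψ, e⟩ := hf
      exact ⟨F, inferInstance, inferInstance, inferInstance, φ, s • ψ, by rw [LinearMap.smul_comp, e, smul_smul, smul_eq_mul]⟩
  obtain ⟨F, _, _, _, φ, ψ, e⟩ := h1 1 (hS ▸ Submodule.mem_top)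
  exact Module.Projective.of_split φ ψ (by rw [e, one_smul])

theorem projective_rel {n k : ℕ} {x : Fin n → M} (hx : Submodule.span R (Set.range x) = ⊤) [Module.Finite R M]
    {a : R} (ha : a ∈ nonZeroDivisors R) (hF : Fitt.ideal R M k = Ideal.span {a})
    (hk : k = 0 ∨ Fitt.ideal R M (k - 1) = ⊥) : Module.Projective R (rel (R := R) x) := by
  let S : Set R := {f | ∃ (z : Fin (n - k) → Fin n → R) (e : Fin (n - k) → Fin n) (c : R),
    (∀ j, ∑ i, z j i • x i = 0) ∧ Function.Injective e ∧ minor z e = a * c ∧ f = c ^ 2}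
  refine projective_of_projFactor _ S ?_ ?_
  · by_contra hne
    obtain ⟨Q, hQ, hle⟩ := Ideal.exists_le_maximal _ hne
    have h1 : Fitt.ideal R M k ≤ Ideal.span {a} * Q := by
      conv_lhs => rw [ideal_eq_tup x hx, tup_eq_minors, minors]
      refine Ideal.span_le.2 ?_
      rintro _ ⟨z, e, hz, rfl⟩
      by_cases he : Function.Injective e
      · obtain ⟨c, hc⟩ := Ideal.mem_span_singleton'.1 (hF ▸ minor_mem_ideal hx hz e : minor z e ∈ Ideal.span {a})
        have hcQ : c ^ 2 ∈ Q := hle (Ideal.subset_span ⟨z, e, c, hz, he, hc.symm.trans (mul_comm c a), rfl⟩)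
        exact Ideal.mem_span_singleton_mul.2 ⟨c, hQ.isPrime.mem_of_pow_mem 2 hcQ, (mul_comm a c).trans hc⟩
      · simp only [Function.Injective, not_forall] at he
        obtain ⟨i, j, hij, hne'⟩ := he
        rw [SetLike.mem_coe, Matrix.det_zero_of_row_eq hne' (funext fun b => by simp [hij])]
        exact zero_mem _
    obtain ⟨c, hcQ, hca⟩ := Ideal.mem_span_singleton_mul.1 (h1 (hF ▸ Ideal.mem_span_singleton_self a))
    have : c = 1 := (mul_cancel_left_mem_nonZeroDivisors ha).1 (hca.trans (mul_one a).symm)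
    exact hQ.ne_top ((Ideal.eq_top_iff_one _).2 (this ▸ hcQ))
  · rintro _ ⟨z, e, c, hz, he, hc, rfl⟩
    obtain ⟨φ, ψ, h⟩ := rel_split hx ha hF hk hz he hc
    exact ⟨Fin (n - k) → R, inferInstance, inferInstance, inferInstance, φ, ψ, h⟩

end Groth.L13.Fitting
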