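import Groth.Agent.L13.Fitting.Minors
import Mathlib.RingTheory.Ideal.Operations
import Mathlib.RingTheory.Finiteness.Prod

/-! Fitting ideals of products. -/

set_option autoImplicit false

universe u v w

open scoped Classical

namespace Groth.L13.Fitting

variable {R : Type u} [CommRing R] {M : Type v} [AddCommGroup M] [Module R M] {N : Type w} [AddCommGroup N] [Module R N]

/-- generators of a product -/
noncomputable def pTup {n m : ℕ} (x : Fin n → M) (y : Fin m → N) : Fin (n + m) → M × N :=
  Fin.append (fun i => (x i, 0)) (fun j => (0, y j))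

theorem span_pTup {n m : ℕ} (x : Fin n → M) (y : Fin m → N) (hx : Submodule.span R (Set.range x) = ⊤)
    (hy : Submodule.span R (Set.range y) = ⊤) : Submodule.span R (Set.range (pTup x y)) = ⊤ := by
  refine top_unique fun p _ => ?_
  obtain ⟨c, hc⟩ := (Submodule.mem_span_range_iff_exists_fun R).1 (hx ▸ Submodule.mem_top : p.1 ∈ _)
  obtain ⟨d, hd⟩ := (Submodule.mem_span_range_iff_exists_fun R).1 (hy ▸ Submodule.mem_top : p.2 ∈ _)
  refine (Submodule.mem_span_range_iff_exists_fun R).2 ⟨Fin.append c d, ?_⟩
  refine Prod.ext ?_ ?_ <;> simp [pTup, Fin.sum_univ_add, Prod.fst_sum, Prod.snd_sum, hc, hd]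

theorem mem_rel_pTup {n m : ℕ} (x : Fin n → M) (y : Fin m → N) (z : Fin (n + m) → R) :
    z ∈ rel (R := R) (pTup x y) ↔
      (fun i => z (Fin.castAdd m i)) ∈ rel (R := R) x ∧ (fun j => z (Fin.natAdd n j)) ∈ rel (R := R) y := by
  simp only [mem_rel, pTup, Fin.sum_univ_add, Fin.append_left, Fin.append_right]
  constructor
  · intro h
    exact ⟨by simpa [Prod.fst_sum] using congrArg Prod.fst h, by simpa [Prod.snd_sum] using congrArg Prod.snd h⟩
  · rintro ⟨h1, h2⟩
    refine Prod.ext ?_ ?_ <;> simp [Prod.fst_sum, Prod.snd_sum, h1, h2]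

theorem det_block {n m : ℕ} (σ : Fin n ⊕ Fin m ≃ Fin (n + m)) (b : Matrix (Fin (n + m)) (Fin (n + m)) R)
    (h1 : ∀ i j, b (σ (Sum.inl i)) (Fin.natAdd n j) = 0) (h2 : ∀ i j, b (σ (Sum.inr i)) (Fin.castAdd m j) = 0) :
    ∃ u : Rˣ, b.det = u * ((Matrix.of fun i j => b (σ (Sum.inl i)) (Fin.castAdd m j)).det *
      (Matrix.of fun i j => b (σ (Sum.inr i)) (Fin.natAdd n j)).det) := by
  let π : Equiv.Perm (Fin (n + m)) := finSumFinEquiv.symm.trans σ
  have h : (b.submatrix π id).submatrix finSumFinEquiv finSumFinEquiv =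
      Matrix.fromBlocks (Matrix.of fun i j => b (σ (Sum.inl i)) (Fin.castAdd m j)) 0 0
        (Matrix.of fun i j => b (σ (Sum.inr i)) (Fin.natAdd n j)) := by
    ext i j
    rcases i with i | i <;> rcases j with j | j <;> simp [π, h1, h2]
  have hd := congrArg Matrix.det h
  rw [Matrix.det_submatrix_equiv_self, Matrix.det_permute, Matrix.det_fromBlocks_zero₂₁] at hd
  rcases Int.units_eq_one_or (Equiv.Perm.sign π) with hs | hs <;> rw [hs] at hd
  · exact ⟨1, by simpa using hd⟩
  · exact ⟨-1, by simp at hd; simp [← hd]⟩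

theorem det_eq_zero_of_sides {n m : ℕ} (b : Matrix (Fin (n + m)) (Fin (n + m)) R) (L : Finset (Fin (n + m)))
    (h1 : ∀ i ∈ L, ∀ j, b i (Fin.natAdd n j) = 0) (h2 : ∀ i ∉ L, ∀ j, b i (Fin.castAdd m j) = 0)
    (hc : L.card ≠ n) : b.det = 0 := by
  rw [Matrix.det_apply']
  refine Finset.sum_eq_zero fun σ _ => ?_
  obtain ⟨i, hi⟩ : ∃ i, b (σ i) i = 0 := by
    by_contra hall
    push Not at hall
    refine hc ?_
    rw [show L = (Finset.univ : Finset (Fin n)).image (fun l => σ (Fin.castAdd m l)) from ?_]
    · rw [Finset.card_image_of_injective (f := fun l => σ (Fin.castAdd m l)) _ (σ.injective.comp (Fin.castAdd_injective n m))]; simp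
    ext i
    simp only [Finset.mem_image, Finset.mem_univ, true_and]
    constructor
    · intro hi
      induction h : σ.symm i using Fin.addCases with
      | left l => exact ⟨l, by rw [← h, Equiv.apply_symm_apply]⟩
      | right l =>
        refine absurd ?_ (hall (σ.symm i))
        rw [Equiv.apply_symm_apply, h]; exact h1 i hi l
    · rintro ⟨l, rfl⟩
      by_contra hi
      exact hall _ (h2 _ hi l)
  exact mul_eq_zero_of_right _ (Finset.prod_eq_zero (f := fun i => b (σ i) i) (Finset.mem_univ i) hi)

theorem tup_prod {n m : ℕ} (x : Fin n → M) (y : Fin m → N) (l : ℕ) :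
    tup R (pTup x y) l = ∑ k ∈ Finset.range (l + 1), tup R x k * tup R y (l - k) := by
  rw [Ideal.sum_eq_sup]
  refine le_antisymm (Ideal.span_le.2 ?_) (Finset.sup_le fun k hk => Ideal.mul_le.2 fun d hd d' hd' => ?_)
  · rintro _ ⟨a, ha, rfl⟩
    let Gd : Set (Fin (n + m) → R) := {z | z ∈ rel (R := R) (pTup x y) ∧
      ((∀ j, z (Fin.natAdd n j) = 0) ∨ ∀ j, z (Fin.castAdd m j) = 0)}
    let U : Set (Fin (n + m) → R) := Set.range fun i => Pi.single i (1 : R)
    refine det_mem_of_rows _ (fun i => if i ∈ bad (pTup x y) a then U else Gd) (fun b hb => ?_) a (fun i => ?_)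
    · have hside : ∀ i, (∀ j, b i (Fin.natAdd n j) = 0) ∨ ∀ j, b i (Fin.castAdd m j) = 0 := by
        intro i
        have := hb i
        split_ifs at this
        · obtain ⟨c, hc⟩ := this
          induction c using Fin.addCases with
          | left c => exact Or.inl fun j => (congrFun hc _).symm.trans (Pi.single_eq_of_ne (fun e => by simp [Fin.ext_iff] at e; omega) _)
          | right c => exact Or.inr fun j => (congrFun hc _).symm.trans (Pi.single_eq_of_ne (fun e => by simp [Fin.ext_iff] at e; omega) _)
        · exact this.2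
      let L := Finset.univ.filter fun i => ∀ j, b i (Fin.natAdd n j) = 0
      have h1 : ∀ i ∈ L, ∀ j, b i (Fin.natAdd n j) = 0 := fun i hi => (Finset.mem_filter.1 hi).2
      have h2 : ∀ i ∉ L, ∀ j, b i (Fin.castAdd m j) = 0 := fun i hi =>
        (hside i).resolve_left fun h => hi (Finset.mem_filter.2 ⟨Finset.mem_univ _, h⟩)
      by_cases hc : L.card = n
      · let e1 : Fin n ≃ L := (finCongr hc.symm).trans L.equivFin.symm
        have hc2 : Fintype.card (Fin m) = Fintype.card {i // i ∉ L} := by
          rw [Fintype.card_subtype_compl, Fintype.card_coe, Fintype.card_fin, Fintype.card_fin, hc]; omega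
        let e2 : Fin m ≃ {i // i ∉ L} := Fintype.equivOfCardEq hc2
        let σ : Fin n ⊕ Fin m ≃ Fin (n + m) := (Equiv.sumCongr e1 e2).trans (Equiv.sumCompl (fun i => i ∈ L))
        have hσl : ∀ i, σ (Sum.inl i) ∈ L := fun i => (e1 i).2
        have hσr : ∀ i, σ (Sum.inr i) ∉ L := fun i => (e2 i).2
        obtain ⟨u, hu⟩ := det_block σ b (fun i j => h1 _ (hσl i) j) (fun i j => h2 _ (hσr i) j)
        rw [hu]
        let A : Matrix (Fin n) (Fin n) R := Matrix.of fun i j => b (σ (Sum.inl i)) (Fin.castAdd m j)
        let B : Matrix (Fin m) (Fin m) R := Matrix.of fun i j => b (σ (Sum.inr i)) (Fin.natAdd n j)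
        have hsum : (bad x A).card + (bad y B).card ≤ l := by
          refine le_trans ?_ ha
          rw [← Finset.card_disjSum]
          refine Finset.card_le_card_of_injOn σ (fun s hs => ?_) σ.injective.injOn
          rw [Finset.mem_coe] at hs ⊢
          by_contra hg
          have := hb (σ s)
          rw [if_neg hg] at this
          have h3 := (mem_rel_pTup x y _).1 this.1
          rcases s with s | s
          · exact (Finset.mem_filter.1 (Finset.inl_mem_disjSum.1 hs)).2 h3.1
          · exact (Finset.mem_filter.1 (Finset.inr_mem_disjSum.1 hs)).2 h3.2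
        refine Ideal.mul_mem_left _ _ (Finset.le_sup (f := fun k => tup R x k * tup R y (l - k))
          (Finset.mem_range.2 (show (bad x A).card < l + 1 by omega)) ?_)
        exact Ideal.mul_mem_mul (det_mem_tup A le_rfl) (det_mem_tup B (by omega))
      · rw [det_eq_zero_of_sides b L h1 h2 hc]; exact zero_mem _
    · split_ifs with h
      · rw [show a i = ∑ j, a i j • (Pi.single j 1 : Fin (n + m) → R) from pi_eq_sum_univ' _]
        exact Submodule.sum_mem _ fun j _ => Submodule.smul_mem _ _ (Submodule.subset_span ⟨j, rfl⟩)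
      · have h2 : a i ∈ rel (R := R) (pTup x y) := by
          by_contra h2; exact h (Finset.mem_filter.2 ⟨Finset.mem_univ _, h2⟩)
        rw [mem_rel_pTup] at h2
        rw [show a i = Fin.append (fun j => a i (Fin.castAdd m j)) 0 + Fin.append 0 (fun j => a i (Fin.natAdd n j)) by
          funext l; induction l using Fin.addCases <;> simp]
        refine add_mem (Submodule.subset_span ⟨(mem_rel_pTup x y _).2 ⟨?_, ?_⟩, Or.inl fun j => ?_⟩)
          (Submodule.subset_span ⟨(mem_rel_pTup x y _).2 ⟨?_, ?_⟩, Or.inr fun j => ?_⟩)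
        · simpa using h2.1
        · simp only [Fin.append_right]; exact zero_mem _
        · simp
        · simp only [Fin.append_left]; exact zero_mem _
        · simpa using h2.2
        · simp
  · induction hd using Submodule.span_induction with
    | mem d hd =>
      induction hd' using Submodule.span_induction with
      | mem d' hd' =>
        obtain ⟨A, hA, rfl⟩ := hd
        obtain ⟨B, hB, rfl⟩ := hd'
        have h : A.det * B.det = ((Matrix.fromBlocks A 0 0 B).submatrix finSumFinEquiv.symm finSumFinEquiv.symm).det := by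
          rw [Matrix.det_submatrix_equiv_self, Matrix.det_fromBlocks_zero₂₁]
        rw [h]
        refine det_mem_tup _ (le_trans (b := ((bad x A).disjSum (bad y B)).card) ?_ ?_)
        · refine Finset.card_le_card_of_injOn finSumFinEquiv.symm (fun s hs => ?_) finSumFinEquiv.symm.injective.injOn
          obtain ⟨t, rfl⟩ := finSumFinEquiv.surjective s
          rw [Finset.mem_coe] at hs ⊢
          rw [Equiv.symm_apply_apply]
          by_contra hg
          refine (Finset.mem_filter.1 hs).2 ((mem_rel_pTup x y _).2 ?_)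
          rcases t with t | t
          · rw [Finset.inl_mem_disjSum] at hg
            have hg' : A t ∈ rel (R := R) x := by_contra fun h => hg (Finset.mem_filter.2 ⟨Finset.mem_univ _, h⟩)
            exact ⟨by simpa using hg', by simp [← Pi.zero_def]⟩
          · rw [Finset.inr_mem_disjSum] at hg
            have hg' : B t ∈ rel (R := R) y := by_contra fun h => hg (Finset.mem_filter.2 ⟨Finset.mem_univ _, h⟩)
            exact ⟨by simp [← Pi.zero_def], by simpa using hg'⟩
        · rw [Finset.card_disjSum]
          have := Finset.mem_range.1 hk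
          omega
      | zero => simp
      | add a b _ _ ha hb => rw [mul_add]; exact add_mem ha hb
      | smul c a _ ha => rw [smul_eq_mul, mul_left_comm]; exact Ideal.mul_mem_left _ _ ha
    | zero => simp
    | add a b _ _ ha hb => rw [add_mul]; exact add_mem ha hb
    | smul c a _ ha => rw [smul_eq_mul, mul_assoc]; exact Ideal.mul_mem_left _ _ ha

theorem ideal_prod [Module.Finite R M] [Module.Finite R N] (l : ℕ) :
    Fitt.ideal R (M × N) l = ∑ k ∈ Finset.range (l + 1), Fitt.ideal R M k * Fitt.ideal R N (l - k) := by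
  obtain ⟨n, x, hx⟩ := exists_gens (R := R) (M := M)
  obtain ⟨m, y, hy⟩ := exists_gens (R := R) (M := N)
  rw [ideal_eq_tup _ (span_pTup x y hx hy), tup_prod]
  exact Finset.sum_congr rfl fun k _ => by rw [ideal_eq_tup x hx, ideal_eq_tup y hy]

end Groth.L13.Fitting
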