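import Groth.Prelude.Def_Fitting
import Mathlib.LinearAlgebra.Matrix.Determinant.Basic
import Mathlib.LinearAlgebra.Matrix.Adjugate
import Mathlib.RingTheory.Finiteness.Basic
import Mathlib.LinearAlgebra.Finsupp.LinearCombination

/-! Fitting ideals: independence of the generating tuple. -/

set_option autoImplicit false

universe u v

open scoped Classical

namespace Groth.L13.Fitting

variable {R : Type u} [CommRing R] {M : Type v} [AddCommGroup M] [Module R M]

/-- the relations among the members of a tuple -/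
noncomputable def rel {n : ℕ} (x : Fin n → M) : Submodule R (Fin n → R) :=
  LinearMap.ker (Fintype.linearCombination R x)

theorem mem_rel {n : ℕ} {x : Fin n → M} {z : Fin n → R} : z ∈ rel x ↔ ∑ i, z i • x i = 0 := by
  rw [rel, LinearMap.mem_ker, Fintype.linearCombination_apply]

/-- the rows which are not relations -/
noncomputable def bad {n : ℕ} {ι : Type*} [Fintype ι] (x : Fin n → M) (a : ι → Fin n → R) : Finset ι :=
  Finset.univ.filter fun i => a i ∉ rel x

variable (R) in
/-- determinants with at most `r` rows which are not relations -/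
noncomputable def tup {n : ℕ} (x : Fin n → M) (r : ℕ) : Ideal R :=
  Ideal.span {d | ∃ a : Matrix (Fin n) (Fin n) R, (bad x a).card ≤ r ∧ d = a.det}

theorem det_mem_tup {n : ℕ} {x : Fin n → M} {r : ℕ} (a : Matrix (Fin n) (Fin n) R) (h : (bad x a).card ≤ r) :
    a.det ∈ tup R x r := Ideal.subset_span ⟨a, h, rfl⟩

theorem tup_mono {n : ℕ} (x : Fin n → M) {r s : ℕ} (h : r ≤ s) : tup R x r ≤ tup R x s :=
  Ideal.span_mono fun _ ⟨a, ha, e⟩ => ⟨a, ha.trans h, e⟩

theorem tup_eq_top {n : ℕ} (x : Fin n → M) {r : ℕ} (h : n ≤ r) : tup R x r = ⊤ := by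
  refine (Ideal.eq_top_iff_one _).2 ?_
  rw [← Matrix.det_one (n := Fin n)]
  exact det_mem_tup _ ((Finset.card_le_univ _).trans (by simpa using h))

theorem tup_comp_equiv {n m : ℕ} (x : Fin m → M) (σ : Fin n ≃ Fin m) (r : ℕ) : tup R (x ∘ σ) r = tup R x r := by
  suffices H : ∀ {n m : ℕ} (x : Fin m → M) (σ : Fin n ≃ Fin m), tup R (x ∘ σ) r ≤ tup R x r by
    refine le_antisymm (H x σ) ?_
    have := H (x ∘ σ) σ.symm
    rwa [Function.comp_assoc, σ.self_comp_symm, Function.comp_id] at this
  intro n m x σ
  refine Ideal.span_le.2 ?_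
  rintro _ ⟨a, ha, rfl⟩
  rw [← Matrix.det_reindex_self σ a]
  refine det_mem_tup _ (le_trans (le_of_eq ?_) ha)
  rw [← Finset.card_map σ.symm.toEmbedding]
  congr 1
  ext i
  simp only [Finset.mem_map_equiv, bad, Finset.mem_filter, Finset.mem_univ, true_and, Equiv.symm_symm]
  rw [mem_rel, mem_rel, ← σ.sum_comp]
  simp [Matrix.reindex_apply]

theorem det_one_add_row {n : ℕ} (c : Fin n → R) :
    (Matrix.of (fun i j => if i = j then (1 : R) else if i = 0 then (Fin.cons 0 c : Fin (n + 1) → R) j else 0) :
      Matrix (Fin (n + 1)) (Fin (n + 1)) R).det = 1 := by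
  rw [Matrix.det_succ_column_zero, Finset.sum_eq_single 0 (fun i _ hi => by simp [hi]) (by simp)]
  have h : (Matrix.of (fun i j => if i = j then (1 : R) else if i = 0 then (Fin.cons 0 c : Fin (n + 1) → R) j else 0) :
      Matrix (Fin (n + 1)) (Fin (n + 1)) R).submatrix (Fin.succAbove 0) Fin.succ = 1 := by
    ext i j
    simp [Matrix.one_apply, Fin.succAbove_zero]
  rw [h]
  simp

theorem tup_cons {n : ℕ} (x : Fin n → M) (y : M) (hy : y ∈ Submodule.span R (Set.range x)) (r : ℕ) :
    tup R (Fin.cons y x : Fin (n + 1) → M) r = tup R x r := by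
  obtain ⟨c, hc⟩ := (Submodule.mem_span_range_iff_exists_fun R).1 hy
  refine le_antisymm (Ideal.span_le.2 ?_) (Ideal.span_le.2 ?_)
  · rintro _ ⟨a, ha, rfl⟩
    let E : Matrix (Fin (n + 1)) (Fin (n + 1)) R :=
      Matrix.of (fun i j => if i = j then (1 : R) else if i = 0 then (Fin.cons 0 c : Fin (n + 1) → R) j else 0)
    have he : (a * E).det = a.det := by rw [Matrix.det_mul, det_one_add_row, mul_one]
    have hcol : ∀ i (j : Fin n), (a * E) i j.succ = a i j.succ + a i 0 * c j := by
      intro i j
      rw [Matrix.mul_apply, Fin.sum_univ_succ, Finset.sum_eq_single j (fun l _ hl => by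
        simp [E, hl, Fin.succ_ne_zero]) (by simp)]
      simp [E, (Fin.succ_ne_zero j).symm, add_comm]
    rw [SetLike.mem_coe, ← he, Matrix.det_succ_column_zero]
    refine Submodule.sum_mem _ fun i _ => Ideal.mul_mem_left _ _ (det_mem_tup _ (le_trans ?_ ha))
    refine Finset.card_le_card_of_injOn i.succAbove (fun l hl => ?_) Fin.succAbove_right_injective.injOn
    simp only [bad, Finset.coe_filter, Finset.mem_univ, true_and, Set.mem_setOf_eq, mem_rel] at hl ⊢
    intro h
    apply hl
    rw [Fin.sum_univ_succ] at h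
    simp only [Fin.cons_zero, Fin.cons_succ] at h
    simp only [Matrix.submatrix_apply, hcol, add_smul, Finset.sum_add_distrib, mul_smul, ← Finset.smul_sum, hc]
    rw [add_comm]; exact h
  · rintro _ ⟨a, ha, rfl⟩
    let A : Matrix (Fin (n + 1)) (Fin (n + 1)) R :=
      Fin.cons (Fin.cons 1 (-c)) (fun i => Fin.cons 0 (a i))
    have hA : A.det = a.det := by
      rw [Matrix.det_succ_column_zero, Finset.sum_eq_single 0 (fun i _ hi => ?_) (by simp)]
      · have h : A.submatrix (Fin.succAbove 0) Fin.succ = a := by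
          ext i j; simp [A, Fin.succAbove_zero]
        rw [h]; simp [A]
      · obtain ⟨l, rfl⟩ := Fin.exists_succ_eq.2 hi
        simp [A]
    rw [SetLike.mem_coe, ← hA]
    refine det_mem_tup _ (le_trans ?_ ha)
    rw [← Finset.card_map (Fin.succEmb n)]
    refine Finset.card_le_card fun i hi => ?_
    simp only [bad, Finset.mem_filter, Finset.mem_univ, true_and, mem_rel] at hi
    simp only [Finset.mem_map, bad, Finset.mem_filter, Finset.mem_univ, true_and, mem_rel]
    induction i using Fin.cases with
    | zero => exact absurd (by simp [A, Fin.sum_univ_succ, hc]) hi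
    | succ l => exact ⟨l, fun h => hi (by simp [A, Fin.sum_univ_succ, h]), rfl⟩

theorem tup_append {n m : ℕ} (x : Fin n → M) (hx : Submodule.span R (Set.range x) = ⊤) (y : Fin m → M) (r : ℕ) :
    tup R (Fin.append y x) r = tup R x r := by
  induction m with
  | zero =>
    rw [Fin.append_left_nil y x rfl]
    exact tup_comp_equiv x (finCongr (Nat.zero_add n)) r
  | succ m ih =>
    rw [← Fin.cons_self_tail y, Fin.append_cons, ← ih (Fin.tail y)]
    rw [show (Fin.cons (y 0) (Fin.append (Fin.tail y) x) : Fin (m + n + 1) → M) ∘ Fin.cast (Nat.succ_add m n) =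
        (Fin.cons (y 0) (Fin.append (Fin.tail y) x) : Fin (m + n + 1) → M) ∘ finCongr (Nat.succ_add m n) from rfl,
      tup_comp_equiv, tup_cons]
    refine Submodule.span_mono ?_ (hx ▸ Submodule.mem_top : y 0 ∈ Submodule.span R (Set.range x))
    rintro _ ⟨i, rfl⟩
    exact ⟨Fin.natAdd m i, Fin.append_right _ _ _⟩

theorem tup_indep {n m : ℕ} (x : Fin n → M) (hx : Submodule.span R (Set.range x) = ⊤) (y : Fin m → M)
    (hy : Submodule.span R (Set.range y) = ⊤) (r : ℕ) : tup R x r = tup R y r := by
  rw [← tup_append x hx y, ← tup_append y hy x]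
  have h : Fin.append y x = Fin.append x y ∘ finAddFlip := by
    funext i
    induction i using Fin.addCases with
    | left i => simp
    | right i => simp
  rw [h]
  exact tup_comp_equiv _ _ r

theorem exists_perm_first {n : ℕ} (S : Finset (Fin n)) :
    ∃ σ : Equiv.Perm (Fin n), ∀ i : Fin n, (i : ℕ) < n - S.card → σ i ∉ S := by
  have hc : Fintype.card {i : Fin n // (i : ℕ) < n - S.card} = Fintype.card {i : Fin n // i ∉ S} := by
    rw [Fintype.card_subtype_compl, Fintype.card_coe, Fintype.card_fin,
      ← Fintype.card_congr (Fin.castLEquiv (Nat.sub_le n S.card)), Fintype.card_fin]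
  obtain ⟨e⟩ := Fintype.card_eq.1 hc
  exact ⟨e.extendSubtype, fun i hi => by rw [Equiv.extendSubtype_apply_of_mem e i hi]; exact (e ⟨i, hi⟩).2⟩

theorem ideal_eq_tup {n : ℕ} (x : Fin n → M) (hx : Submodule.span R (Set.range x) = ⊤) (r : ℕ) :
    Fitt.ideal R M r = tup R x r := by
  refine le_antisymm (Ideal.span_le.2 ?_) (Ideal.span_le.2 ?_)
  · rintro _ ⟨m, y, a, hy, ha, rfl⟩
    rw [tup_indep x hx y hy]
    refine det_mem_tup _ ?_
    refine le_trans (Finset.card_le_card (t := Finset.univ.filter fun i : Fin m => m - r ≤ (i : ℕ)) fun i hi => ?_) ?_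
    · simp only [bad, Finset.mem_filter, Finset.mem_univ, true_and, mem_rel] at hi ⊢
      by_contra h
      exact hi (ha i (by omega))
    · have h1 := Finset.card_filter_add_card_filter_not (s := (Finset.univ : Finset (Fin m))) (p := fun i => (i : ℕ) < m - r)
      simp only [not_lt, Fin.card_filter_val_lt, Finset.card_univ, Fintype.card_fin] at h1
      omega
  · rintro _ ⟨a, ha, rfl⟩
    obtain ⟨σ, hσ⟩ := exists_perm_first (bad x a)
    have hb : (a.submatrix σ id).det ∈ Fitt.ideal R M r := by
      refine Ideal.subset_span ⟨n, x, a.submatrix σ id, hx, fun i hi => ?_, rfl⟩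
      have := hσ i (by omega)
      simp only [bad, Finset.mem_filter, Finset.mem_univ, true_and, not_not, mem_rel] at this
      exact this
    rw [Matrix.det_permute] at hb
    rcases Int.units_eq_one_or (Equiv.Perm.sign σ) with h | h <;> rw [h] at hb <;> simpa using hb

theorem exists_gens [Module.Finite R M] : ∃ (n : ℕ) (x : Fin n → M), Submodule.span R (Set.range x) = ⊤ :=
  Module.Finite.exists_fin

end Groth.L13.Fitting
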