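import Groth.Agent.L13.Fitting.LocFree
import Mathlib.RingTheory.LocalRing.Basic

/-! Fitting ideals: a principal Fitting ideal. -/

set_option autoImplicit false

universe u v w

open scoped Classical

namespace Groth.L13.Fitting

variable {R : Type u} [CommRing R] {M : Type v} [AddCommGroup M] [Module R M]

/-- over a local ring some minor generates a principal Fitting ideal -/
theorem exists_generating_minor [IsLocalRing R] {n k : ℕ} {x : Fin n → M} (hx : Submodule.span R (Set.range x) = ⊤)
    {f : R} (hf : Fitt.ideal R M k = Ideal.span {f}) (hf0 : f ≠ 0) :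
    ∃ (z : Fin (n - k) → Fin n → R) (e : Fin (n - k) → Fin n) (u : Rˣ),
      (∀ j, ∑ i, z j i • x i = 0) ∧ minor z e = f * u ∧ Function.Injective e := by
  by_contra hne
  push Not at hne
  have hle : Fitt.ideal R M k ≤ Ideal.span {f} * IsLocalRing.maximalIdeal R := by
    conv_lhs => rw [ideal_eq_tup x hx, tup_eq_minors, minors]
    refine Ideal.span_le.2 ?_
    rintro _ ⟨z, e, hz, rfl⟩
    have hm : minor z e ∈ Ideal.span {f} := hf ▸ minor_mem_ideal hx hz e
    obtain ⟨c, hc⟩ := Ideal.mem_span_singleton'.1 hm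
    by_cases he : Function.Injective e
    · rw [SetLike.mem_coe, show (Matrix.of fun a b => z b (e a)).det = f * c from hc.symm.trans (mul_comm c f)]
      refine Ideal.mul_mem_mul (Ideal.mem_span_singleton_self f) ((IsLocalRing.mem_maximalIdeal c).2 fun hu => ?_)
      exact hne z e hu.unit hz (by rw [← hc, mul_comm]; rfl) he
    · simp only [Function.Injective, not_forall] at he
      obtain ⟨i, j, hij, hne'⟩ := he
      rw [SetLike.mem_coe, Matrix.det_zero_of_row_eq hne' (funext fun b => by simp [hij])]
      exact zero_mem _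
  have hfm : f ∈ Ideal.span {f} * IsLocalRing.maximalIdeal R := hle (hf ▸ Ideal.mem_span_singleton_self f)
  obtain ⟨c, hc, hcf⟩ := Ideal.mem_span_singleton_mul.1 hfm
  have hu : IsUnit (1 - c) := IsLocalRing.isUnit_one_sub_self_of_mem_nonunits c hc
  exact hf0 (hu.mul_left_eq_zero.1 (by rw [mul_sub, mul_one, hcf, sub_self]))

theorem gens_quotient_ker [IsLocalRing R] [Module.Finite R M] {k : ℕ} {f : R}
    (hf : Fitt.ideal R M k = Ideal.span {f}) :
    ∃ g : Fin k → M ⧸ LinearMap.ker (f • (LinearMap.id : M →ₗ[R] M)), Submodule.span R (Set.range g) = ⊤ := by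
  set K := LinearMap.ker (f • (LinearMap.id : M →ₗ[R] M)) with hK
  have hmem : ∀ m, m ∈ K ↔ f • m = 0 := fun m => by simp [hK]
  by_cases hf0 : f = 0
  · refine ⟨fun _ => 0, top_unique fun q _ => ?_⟩
    obtain ⟨m, rfl⟩ := Submodule.mkQ_surjective K q
    rw [Submodule.mkQ_apply, (Submodule.Quotient.mk_eq_zero K).2 ((hmem m).2 (by rw [hf0, zero_smul]))]
    exact zero_mem _
  obtain ⟨n, x, hx⟩ := exists_gens (R := R) (M := M)
  obtain ⟨z, e, u, hz, hu, he⟩ := exists_generating_minor hx hf hf0
  obtain ⟨g, hg⟩ := exists_fin_span (R := R)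
    ((Finset.univ.filter fun c => c ∉ Set.range e).image (fun c => K.mkQ (x c))) (k := k)
    (Finset.card_image_le.trans (by rw [card_compl_range he]; omega))
  have hqx : Submodule.span R (Set.range (K.mkQ ∘ x)) = ⊤ := by
    rw [Set.range_comp, Submodule.span_image, hx, Submodule.map_top, Submodule.range_mkQ]
  refine ⟨g, top_unique (hqx ▸ Submodule.span_le.2 ?_)⟩
  rintro _ ⟨i, rfl⟩
  have hrest : ∀ c, c ∉ Set.range e → K.mkQ (x c) ∈ Submodule.span R (Set.range g) := fun c hc =>
    hg (Finset.mem_image_of_mem (fun c => K.mkQ (x c)) (by simpa using hc))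
  by_cases hi : i ∈ Set.range e
  · obtain ⟨a, rfl⟩ := hi
    have hb : ∀ c, ∃ b, minor z (Function.update e a c) = f * b := fun c => by
      obtain ⟨b, hb⟩ := Ideal.mem_span_singleton'.1 (hf ▸ minor_mem_ideal hx hz (Function.update e a c) :
        minor z (Function.update e a c) ∈ Ideal.span {f})
      exact ⟨b, hb.symm.trans (mul_comm b f)⟩
    choose b hb using hb
    have h := cramer_split hz he a
    simp only [hu, hb, mul_smul, ← Finset.smul_sum, ← smul_add] at h
    have h2 := (Submodule.Quotient.mk_eq_zero K).2 ((hmem _).2 h)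
    rw [← Submodule.mkQ_apply, map_add, map_smul, map_sum] at h2
    rw [SetLike.mem_coe, Function.comp_apply, ← Submodule.smul_mem_iff_of_isUnit _ u.isUnit,
      eq_neg_of_add_eq_zero_left h2]
    refine neg_mem (Submodule.sum_mem _ fun c hc => ?_)
    rw [map_smul]
    exact Submodule.smul_mem _ _ (hrest c (Finset.mem_filter.1 hc).2)
  · exact hrest i hi

end Groth.L13.Fitting
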