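import Groth.Agent.L13.Fitting.LocFree
import Groth.Agent.L07.GenericFree
import Mathlib.LinearAlgebra.TensorProduct.Quotient
import Mathlib.RingTheory.Ideal.Quotient.Operations
import Mathlib.RingTheory.Spectrum.Prime.FreeLocus
import Mathlib.RingTheory.Spectrum.Prime.Topology
import Mathlib.RingTheory.Flat.Basic
import Mathlib.RingTheory.Noetherian.Basic
import Mathlib.RingTheory.Ideal.Quotient.Noetherian
import Mathlib.RingTheory.GradedAlgebra.Basic
import Mathlib.Algebra.Module.Torsion.Basic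
import Mathlib.RingTheory.TensorProduct.Finite
import Mathlib.Algebra.DirectSum.Decomposition

/-! Stratification by fibre dimensions of the pieces of a finite module over a finite type algebra. -/

set_option autoImplicit false

universe u

open scoped Classical TensorProduct

namespace Groth.L13.Fitting

variable {A : Type u} [CommRing A] [IsNoetherianRing A] {R : Type u} [CommRing R] [Algebra A R] [Algebra.FiniteType A R]
variable {M : Type u} [AddCommGroup M] [Module A M] [Module R M] [IsScalarTower A R M] [Module.Finite R M]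

include R in
/-- scalars of the special fibre -/
theorem exists_freeAt_quotient'
    (P : Ideal A) [P.IsPrime] :
    ∃ f : A ⧸ P, f ≠ 0 ∧ Groth.L07.GenFree.FreeAt f ((A ⧸ P) ⊗[A] M) := by
  let J : Ideal R := P.map (algebraMap A R)
  let M'' := M ⧸ (J • ⊤ : Submodule R M)
  letI : Module (A ⧸ P) M'' := Module.compHom M'' (algebraMap (A ⧸ P) (R ⧸ J))
  haveI : IsScalarTower (A ⧸ P) (R ⧸ J) M'' := ⟨fun a s m => by
    rw [Algebra.smul_def, mul_smul]; rfl⟩
  haveI : Module.Finite (R ⧸ J) M'' := Module.Finite.of_restrictScalars_finite R _ _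
  haveI : Algebra.FiniteType (A ⧸ P) (R ⧸ J) := Algebra.FiniteType.of_restrictScalars_finiteType A _ _
  obtain ⟨f, hf, hfree⟩ := Groth.L07.GenFree.exists_freeAt (R := A ⧸ P) (S := R ⧸ J) M''
  have hst : ∀ (a : A) (m : M''), (Ideal.Quotient.mk P a) • m = a • m := fun a m => by
    obtain ⟨m, rfl⟩ := Submodule.Quotient.mk_surjective _ m
    show algebraMap (A ⧸ P) (R ⧸ J) (Ideal.Quotient.mk P a) • Submodule.Quotient.mk (p := (J • ⊤ : Submodule R M)) m = _
    rw [show algebraMap (A ⧸ P) (R ⧸ J) (Ideal.Quotient.mk P a) = Ideal.Quotient.mk J (algebraMap A R a) from rfl,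
      Module.Quotient.mk_smul_mk, algebraMap_smul]
    rfl
  let e₀ : (A ⧸ P) ⊗[A] M ≃ₗ[A] M'' := (TensorProduct.quotTensorEquivQuotSMul M P) ≪≫ₗ
    Submodule.quotEquivOfEq _ _ (show (P • ⊤ : Submodule A M) = (J • ⊤ : Submodule R M).restrictScalars A from
      by rw [Ideal.smul_restrictScalars, Submodule.restrictScalars_top]) ≪≫ₗ Submodule.Quotient.restrictScalarsEquiv A _
  let e : (A ⧸ P) ⊗[A] M ≃ₗ[A ⧸ P] M'' :=
    { e₀ with
      map_smul' := fun c m => by
        obtain ⟨a, rfl⟩ := Ideal.Quotient.mk_surjective c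
        rw [show Ideal.Quotient.mk P a • m = a • m from algebraMap_smul (A ⧸ P) a m]
        simp only [RingHom.id_apply, hst]
        exact e₀.map_smul a m }
  exact ⟨f, hf, hfree.of_equiv e.symm⟩

variable (R) (ℳ : ℤ → Submodule A M) [DirectSum.Decomposition ℳ]

/-- the vanishing of Fitting ideals of the pieces at a prime -/
def profile (p : Ideal A) : ℤ → ℕ → Prop := fun v k => Fitt.ideal A (ℳ v) k ≤ p

variable [∀ v, Module.Finite A (ℳ v)]

include R in
theorem profile_constant (P : Ideal A) [P.IsPrime] : ∃ a : A, a ∉ P ∧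
    ∀ (q : Ideal A) [q.IsPrime], P ≤ q → a ∉ q → profile ℳ q = profile ℳ P := by
  obtain ⟨f, hf, hfree⟩ := exists_freeAt_quotient' (R := R) (M := M) P
  obtain ⟨a, rfl⟩ := Ideal.Quotient.mk_surjective f
  have ha : a ∉ P := fun h => hf (Ideal.Quotient.eq_zero_iff_mem.2 h)
  let C := Localization.Away (Ideal.Quotient.mk P a)
  haveI : IsDomain C := IsLocalization.isDomain_localization (powers_le_nonZeroDivisors_of_noZeroDivisors hf)
  haveI : Module.Free C (C ⊗[A ⧸ P] ((A ⧸ P) ⊗[A] M)) := hfree.free hf C _ (TensorProduct.mk (A ⧸ P) C _ 1)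
  haveI : Module.Free C (C ⊗[A] M) :=
    Module.Free.of_equiv (TensorProduct.AlgebraTensorModule.cancelBaseChange A (A ⧸ P) C C M)
  have key : ∀ v, ∃ r : ℕ, (∀ k, k < r → (Fitt.ideal A (ℳ v) k).map (algebraMap A C) = ⊥) ∧
      ∀ k, r ≤ k → (Fitt.ideal A (ℳ v) k).map (algebraMap A C) = ⊤ := by
    intro v
    let pr : M →ₗ[A] ℳ v := (DirectSum.component A ℤ (fun i => ℳ i) v).comp (DirectSum.decomposeLinearEquiv ℳ).toLinearMap
    have hpr : pr ∘ₗ (ℳ v).subtype = LinearMap.id := by
      ext x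
      simp [pr, DirectSum.decompose_coe, DirectSum.component.lof_self, DirectSum.lof_eq_of, ← DirectSum.apply_eq_component]
    haveI : Module.Projective C (C ⊗[A] ℳ v) :=
      Module.Projective.of_split ((ℳ v).subtype.baseChange C) (pr.baseChange C)
        (by rw [← LinearMap.baseChange_comp, hpr, LinearMap.baseChange_id])
    haveI : Module.FinitePresentation A (ℳ v) := Module.finitePresentation_of_finite A _
    haveI : Module.FinitePresentation C (C ⊗[A] ℳ v) := inferInstance
    let p₀ : PrimeSpectrum C := ⟨⊥, Ideal.isPrime_bot⟩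
    have hr : ∀ p : PrimeSpectrum C, Module.rankAtStalk (C ⊗[A] ℳ v) p = Module.rankAtStalk (C ⊗[A] ℳ v) p₀ :=
      fun p => Module.isLocallyConstant_rankAtStalk.apply_eq_of_preconnectedSpace p p₀
    obtain ⟨h0, h1⟩ := (projective_rank_iff _).1 ⟨inferInstance, hr⟩
    refine ⟨_, fun k hk => by rw [← ideal_baseChange]; exact h0 k hk, fun k hk => ?_⟩
    rw [← ideal_baseChange]
    exact top_unique (h1.ge.trans (ideal_mono hk))
  choose r hr0 hr1 using key
  have main : ∀ (q : Ideal A) [q.IsPrime], P ≤ q → a ∉ q → profile ℳ q = fun v k => k < r v := by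
    intro q hq hPq haq
    funext v k
    refine propext ⟨fun hle => ?_, fun hk d hd => ?_⟩
    · by_contra hk
      have h := hr1 v k (not_lt.1 hk)
      rw [IsScalarTower.algebraMap_eq A (A ⧸ P) C, ← Ideal.map_map, ← not_ne_iff,
        IsLocalization.map_algebraMap_ne_top_iff_disjoint (Submonoid.powers (Ideal.Quotient.mk P a))] at h
      refine h (Set.disjoint_left.2 ?_)
      rintro _ ⟨N, rfl⟩ hmem
      obtain ⟨d, hd, hde⟩ := (Ideal.mem_map_iff_of_surjective _ Ideal.Quotient.mk_surjective).1 hmem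
      have h2 : d - a ^ N ∈ P := by
        rw [← Ideal.Quotient.eq_zero_iff_mem, map_sub, map_pow, hde, sub_self]
      exact haq (hq.mem_of_pow_mem N (by simpa using q.sub_mem (hle hd) (hPq h2)))
    · have h := hr0 v k hk
      rw [Ideal.map_eq_bot_iff_le_ker] at h
      have h2 : algebraMap (A ⧸ P) C (Ideal.Quotient.mk P d) = 0 := h hd
      obtain ⟨⟨_, N, rfl⟩, hN⟩ := (IsLocalization.map_eq_zero_iff (Submonoid.powers (Ideal.Quotient.mk P a)) C _).1 h2
      have h3 : a ^ N * d ∈ P := by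
        rw [← Ideal.Quotient.eq_zero_iff_mem, map_mul, map_pow]; exact hN
      exact (hq.mem_or_mem (hPq h3)).resolve_left fun h => haq (hq.mem_of_pow_mem N h)
  exact ⟨a, ha, fun q _ hPq haq => (main q hPq haq).trans (main P le_rfl ha).symm⟩

include R in
theorem profiles_finite : ∀ I : Ideal A, {φ | ∃ q : Ideal A, q.IsPrime ∧ I ≤ q ∧ profile ℳ q = φ}.Finite := by
  refine IsNoetherian.induction fun (I : Ideal A) ih => ?_
  by_cases htop : I = ⊤
  · refine Set.Finite.subset Set.finite_empty ?_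
    rintro φ ⟨q, hq, hIq, -⟩
    exact absurd (top_unique (htop ▸ hIq)) hq.ne_top
  by_cases hI : I.IsPrime
  · obtain ⟨a, ha, hconst⟩ := profile_constant R ℳ I
    have hlt : I < I ⊔ Ideal.span {a} :=
      left_lt_sup.2 fun h => ha (h (Ideal.mem_span_singleton_self a))
    refine ((ih _ hlt).insert (profile ℳ I)).subset ?_
    rintro φ ⟨q, hq, hIq, rfl⟩
    by_cases haq : a ∈ q
    · exact Set.mem_insert_of_mem _ ⟨q, hq, sup_le hIq ((Ideal.span_singleton_le_iff_mem _).2 haq), rfl⟩
    · exact Set.mem_insert_iff.2 (Or.inl (hconst q hIq haq))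
  · obtain ⟨x, hx, y, hy, hxy⟩ := (Ideal.not_isPrime_iff.1 hI).resolve_left htop
    have h1 : I < I ⊔ Ideal.span {x} := left_lt_sup.2 fun h => hx (h (Ideal.mem_span_singleton_self x))
    have h2 : I < I ⊔ Ideal.span {y} := left_lt_sup.2 fun h => hy (h (Ideal.mem_span_singleton_self y))
    refine ((ih _ h1).union (ih _ h2)).subset ?_
    rintro φ ⟨q, hq, hIq, rfl⟩
    rcases hq.mem_or_mem (hIq hxy) with h | h
    · exact Or.inl ⟨q, hq, sup_le hIq ((Ideal.span_singleton_le_iff_mem _).2 h), rfl⟩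
    · exact Or.inr ⟨q, hq, sup_le hIq ((Ideal.span_singleton_le_iff_mem _).2 h), rfl⟩

include R in
theorem exists_stratum (h : ℤ → ℕ) :
    ∃ a b : Ideal A, ∀ (B : Type u) [CommRing B] [Algebra A B],
      ((∀ v : ℤ, Module.Finite B (B ⊗[A] ↥(ℳ v)) ∧ Module.Projective B (B ⊗[A] ↥(ℳ v)) ∧
          ∀ p : PrimeSpectrum B, Module.rankAtStalk (B ⊗[A] ↥(ℳ v)) p = h v) ↔
        (Ideal.map (algebraMap A B) a = ⊥ ∧ Ideal.map (algebraMap A B) b = ⊤)) := by
  have hS := profiles_finite R ℳ ⊥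
  let S := hS.toFinset.filter fun φ : ℤ → ℕ → Prop => ∃ v, φ v (h v)
  let pick : (ℤ → ℕ → Prop) → ℤ := fun φ => if hφ : ∃ v, φ v (h v) then hφ.choose else 0
  refine ⟨⨆ v, ⨆ (k : ℕ) (_ : k < h v), Fitt.ideal A (ℳ v) k, ∏ φ ∈ S, Fitt.ideal A (ℳ (pick φ)) (h (pick φ)),
    fun B _ _ => ?_⟩
  haveI : ∀ v, Module.FinitePresentation A (ℳ v) := fun v => Module.finitePresentation_of_finite A _
  have hiff : ∀ v, (Module.Projective B (B ⊗[A] ↥(ℳ v)) ∧
      ∀ p : PrimeSpectrum B, Module.rankAtStalk (B ⊗[A] ↥(ℳ v)) p = h v) ↔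
      ((∀ k, k < h v → (Fitt.ideal A (ℳ v) k).map (algebraMap A B) = ⊥) ∧
        (Fitt.ideal A (ℳ v) (h v)).map (algebraMap A B) = ⊤) := fun v => by
    rw [projective_rank_iff]; simp only [ideal_baseChange]
  constructor
  · intro hB
    refine ⟨?_, ?_⟩
    · simp only [Ideal.map_iSup, iSup_eq_bot]
      exact fun v k hk => ((hiff v).1 ⟨(hB v).2.1, (hB v).2.2⟩).1 k hk
    · refine Finset.prod_induction _ (fun I : Ideal A => I.map (algebraMap A B) = ⊤)
        (fun I J hI hJ => by rw [Ideal.map_mul, hI, hJ, Ideal.top_mul])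
        (by rw [Ideal.one_eq_top, Ideal.map_top]) fun φ _ => ?_
      exact ((hiff _).1 ⟨(hB _).2.1, (hB _).2.2⟩).2
  · rintro ⟨ha, hb⟩ v
    refine ⟨inferInstance, (hiff v).2 ⟨fun k hk => ?_, ?_⟩⟩
    · rw [eq_bot_iff, ← ha]
      exact Ideal.map_mono (le_iSup_of_le v (le_iSup₂_of_le k hk le_rfl))
    by_contra hne
    obtain ⟨Q, hQ, hle⟩ := Ideal.exists_le_maximal _ hne
    haveI := hQ.isPrime
    let q : Ideal A := Q.comap (algebraMap A B)
    have hqa : ∀ w k, k < h w → Fitt.ideal A (ℳ w) k ≤ q := fun w k hk => by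
      refine Ideal.map_le_iff_le_comap.1 (le_trans ?_ bot_le)
      rw [← ha]
      exact Ideal.map_mono (le_iSup_of_le w (le_iSup₂_of_le k hk le_rfl))
    have hq : profile ℳ q v (h v) := Ideal.map_le_iff_le_comap.1 hle
    have hmem : profile ℳ q ∈ S := Finset.mem_filter.2
      ⟨hS.mem_toFinset.2 ⟨q, inferInstance, bot_le, rfl⟩, v, hq⟩
    have hpick : profile ℳ q (pick (profile ℳ q)) (h (pick (profile ℳ q))) := by
      simp only [pick]
      rw [dif_pos ⟨v, hq⟩]
      exact Exists.choose_spec (p := fun w => profile ℳ q w (h w)) ⟨v, hq⟩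
    refine hQ.ne_top (top_unique (hb ▸ le_trans (Ideal.map_mono ?_) (Ideal.map_le_iff_le_comap.2 hpick)))
    rw [← Finset.mul_prod_erase S _ hmem]
    exact Ideal.mul_le_left

end Groth.L13.Fitting
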