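import Groth.Agent.L13.Fitting.Torsion
import Groth.Prelude.Def_BlowUp2
import Groth.Prelude.Def_FlatCA
import Mathlib.RingTheory.Localization.Away.Basic

/-! Fitting ideals of strict transforms on affine blow-up charts. -/

set_option autoImplicit false

universe u

open scoped Classical TensorProduct

namespace Groth.L13.Fitting

variable {R : Type u} [CommRing R] {M : Type u} [AddCommGroup M] [Module R M]
variable {I : Ideal R} {a : R} {R₁ : Type u} [CommRing R₁] [Algebra R R₁]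

theorem chart_nzd (e : R₁ ≃ₐ[R] ↥(BlowUp.affineAlgebra R I a)) : algebraMap R R₁ a ∈ nonZeroDivisors R₁ := by
  rw [mem_nonZeroDivisors_iff_right]
  intro r hr
  apply e.injective
  rw [map_zero]
  have h := congrArg e hr
  rw [map_mul, AlgEquiv.commutes, map_zero] at h
  refine Subtype.ext ?_
  exact (IsLocalization.Away.algebraMap_isUnit (S := Localization.Away a) a).mul_left_eq_zero.1
    (congrArg Subtype.val h)

theorem chart_mem (e : R₁ ≃ₐ[R] ↥(BlowUp.affineAlgebra R I a)) {x : R} (hx : x ∈ I) :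
    algebraMap R R₁ x ∈ Ideal.span {algebraMap R R₁ a} := by
  refine Ideal.mem_span_singleton'.2 ⟨e.symm ⟨_, Algebra.subset_adjoin ⟨x, hx, rfl⟩⟩, e.injective ?_⟩
  rw [map_mul, e.apply_symm_apply, AlgEquiv.commutes, AlgEquiv.commutes]
  exact Subtype.ext (IsLocalization.mk'_spec (Localization.Away a) x ⟨a, Submonoid.mem_powers a⟩)

theorem mem_powTorsion_iff {S : Type u} [CommRing S] (x : S) {N : Type u} [AddCommGroup N] [Module S N] (m : N) :
    m ∈ FlatCA.powTorsion S x N ↔ ∃ n : ℕ, x ^ n • m = 0 := by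
  have hm : Monotone fun n : ℕ => Submodule.torsionBy S N (x ^ n) := fun i j hij m hm => by
    rw [Submodule.mem_torsionBy_iff] at hm ⊢
    rw [← Nat.sub_add_cancel hij, pow_add, mul_smul, hm, smul_zero]
  rw [FlatCA.powTorsion, Submodule.mem_iSup_of_directed _ hm.directed_le]
  simp [Submodule.mem_torsionBy_iff]

theorem exists_pow_mul_eq_zero (a : R) {d : R} (h : ∀ (p : Ideal R) [p.IsPrime], a ∉ p → ∃ s ∉ p, s * d = 0) :
    ∃ N : ℕ, a ^ N * d = 0 := by
  let A : Ideal R := { carrier := {s | s * d = 0}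
                       zero_mem' := zero_mul d
                       add_mem' := fun {a b} ha hb => show (a + b) * d = 0 by rw [add_mul, ha, hb, add_zero]
                       smul_mem' := fun c a ha => show c * a * d = 0 by rw [mul_assoc, ha, mul_zero] }
  suffices a ∈ A.radical from this
  rw [Ideal.radical_eq_sInf, Submodule.mem_sInf]
  rintro p ⟨hAp, hp⟩
  by_contra hap
  obtain ⟨s, hs, hsd⟩ := @h p hp hap
  exact hs (hAp hsd)

variable [Module.Finite R M]

/-- the strict transform has vanishing lower Fitting ideals -/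
theorem chart_bot (e : R₁ ≃ₐ[R] ↥(BlowUp.affineAlgebra R I a)) {r : ℕ}
    (h : ∀ d ∈ Fitt.ideal R M r, ∃ N : ℕ, a ^ N * d = 0) :
    Fitt.ideal R₁ ((R₁ ⊗[R] M) ⧸ FlatCA.powTorsion R₁ (algebraMap R R₁ a) (R₁ ⊗[R] M)) r = ⊥ := by
  refine ideal_quotient_eq_bot (chart_nzd e) ?_ _ fun m hm => (mem_powTorsion_iff _ m).1 hm
  rw [ideal_baseChange, Ideal.map_eq_bot_iff_le_ker]
  intro d hd
  obtain ⟨N, hN⟩ := h d hd
  have h2 : algebraMap R R₁ d * algebraMap R R₁ a ^ N = 0 := by rw [← map_pow, ← map_mul, mul_comm, hN, map_zero]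
  exact mem_nonZeroDivisors_iff_right.1 (pow_mem (chart_nzd e) N) _ h2

theorem chart_top (k : ℕ) (ha : a ∈ Fitt.ideal R M k)
    (e : R₁ ≃ₐ[R] ↥(BlowUp.affineAlgebra R (Fitt.ideal R M k) a)) :
    Fitt.ideal R₁ ((R₁ ⊗[R] M) ⧸ FlatCA.powTorsion R₁ (algebraMap R R₁ a) (R₁ ⊗[R] M)) k = ⊤ := by
  refine ideal_quotient_eq_top' (chart_nzd e) ?_ _ fun m hm => (mem_powTorsion_iff _ m).2 ⟨1, by rwa [pow_one]⟩
  rw [ideal_baseChange]
  exact le_antisymm (Ideal.map_le_iff_le_comap.2 fun x hx => chart_mem e hx)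
    ((Ideal.span_singleton_le_iff_mem _).2 (Ideal.mem_map_of_mem _ ha))

theorem chart_locallyFree (k : ℕ)
    (hfree : ∀ (p : Ideal R) [p.IsPrime], ¬ Fitt.ideal R M k ≤ p →
      Module.Free (Localization.AtPrime p) (LocalizedModule p.primeCompl M) ∧
        Module.finrank (Localization.AtPrime p) (LocalizedModule p.primeCompl M) = k)
    (ha : a ∈ Fitt.ideal R M k) (e : R₁ ≃ₐ[R] ↥(BlowUp.affineAlgebra R (Fitt.ideal R M k) a)) :
    ∀ (p' : Ideal R₁) [p'.IsPrime], ∃ g : R₁, g ∉ p' ∧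
      Module.Free (Localization.Away g) (LocalizedModule (Submonoid.powers g) ((R₁ ⊗[R] M) ⧸ FlatCA.powTorsion R₁ (algebraMap R R₁ a) (R₁ ⊗[R] M))) ∧
      Module.finrank (Localization.Away g) (LocalizedModule (Submonoid.powers g) ((R₁ ⊗[R] M) ⧸ FlatCA.powTorsion R₁ (algebraMap R R₁ a) (R₁ ⊗[R] M))) = k := by
  refine (locallyFree_iff _).2 ⟨fun r hr => chart_bot e fun d hd => exists_pow_mul_eq_zero a fun p _ hap => ?_,
    fun r hr => top_unique ((chart_top k ha e).ge.trans (ideal_mono hr))⟩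
  obtain ⟨hf, hrk⟩ := hfree p fun hle => hap (hle ha)
  let b := Module.finBasisOfFinrankEq (Localization.AtPrime p) (LocalizedModule p.primeCompl M) hrk
  exact killed_of_localization_bot p.primeCompl (by rw [ideal_of_basis b, if_neg (by omega)]) hd

theorem exists_flattening_ideal (f : R) (r : ℕ)
    (hf : ∀ (p : Ideal R) [p.IsPrime], f ∉ p → ∃ g : R, g ∉ p ∧ g ∈ (Ideal.span {f}).radical ∧
      Module.Free (Localization.Away g) (LocalizedModule (Submonoid.powers g) M) ∧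
        Module.finrank (Localization.Away g) (LocalizedModule (Submonoid.powers g) M) = r) :
    ∃ I : Ideal R, I.FG ∧ I.radical = (Ideal.span {f}).radical ∧ ∀ a ∈ I, ∀ (R₁ : Type u) [CommRing R₁] [Algebra R R₁] (e : R₁ ≃ₐ[R] ↥(BlowUp.affineAlgebra R I a)),
      ∀ (p' : Ideal R₁) [p'.IsPrime], ∃ g : R₁, g ∉ p' ∧
        Module.Free (Localization.Away g) (LocalizedModule (Submonoid.powers g) ((R₁ ⊗[R] M) ⧸ FlatCA.powTorsion R₁ (algebraMap R R₁ a) (R₁ ⊗[R] M))) ∧
        Module.finrank (Localization.Away g) (LocalizedModule (Submonoid.powers g) ((R₁ ⊗[R] M) ⧸ FlatCA.powTorsion R₁ (algebraMap R R₁ a) (R₁ ⊗[R] M))) = r := by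
  obtain ⟨n, x, hx⟩ := exists_gens (R := R) (M := M)
  have hbasis : ∀ (p : Ideal R) [p.IsPrime], f ∉ p → ∃ g : R, g ∉ p ∧
      Nonempty (Module.Basis (Fin r) (Localization.Away g) (LocalizedModule (Submonoid.powers g) M)) := by
    intro p hp hfp
    obtain ⟨g, hg, -, hfree, hrk⟩ := hf p hfp
    haveI : Nontrivial (Localization.Away g) := nontrivial_away hg
    exact ⟨g, hg, ⟨Module.finBasisOfFinrankEq _ _ hrk⟩⟩
  have hrad : f ∈ (Fitt.ideal R M r).radical := by
    rw [Ideal.radical_eq_sInf, Submodule.mem_sInf]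
    rintro p ⟨hle, hp⟩
    by_contra hfp
    obtain ⟨g, hg, ⟨b⟩⟩ := @hbasis p hp hfp
    exact (@not_le_iff_away _ _ _ _ _ _ p hp r).2 ⟨g, hg, b, b.span_eq⟩ hle
  obtain ⟨N, hN⟩ := hrad
  rw [ideal_eq_tup x hx, tup_eq_minors, minors] at hN
  obtain ⟨T, hTsub, hNT⟩ := Submodule.mem_span_finite_of_mem_span hN
  choose zf ef hzf hdf using fun d : T => hTsub d.2
  let gens : Finset R :=
    (Finset.univ ×ˢ Finset.univ : Finset (T × (Fin (n - r) → Fin n))).image fun p => f * minor (zf p.1) p.2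
  have hI : ∀ z e, (∃ d, z = zf d) → f * minor z e ∈ Ideal.span (gens : Set R) := by
    rintro _ e ⟨d, rfl⟩
    exact Ideal.subset_span (Finset.mem_image.2 ⟨(d, e), by simp, rfl⟩)
  have hfN : f ^ (N + 1) ∈ Ideal.span (gens : Set R) := by
    rw [pow_succ']
    have h2 : Ideal.span {f} * Ideal.span (T : Set R) ≤ Ideal.span (gens : Set R) := by
      rw [Ideal.span_mul_span', Ideal.span_le]
      rintro _ ⟨_, rfl, d, hd, rfl⟩
      have := hI _ (ef ⟨d, hd⟩) ⟨⟨d, hd⟩, rfl⟩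
      rwa [show minor (zf ⟨d, hd⟩) (ef ⟨d, hd⟩) = d from (hdf ⟨d, hd⟩).symm] at this
    exact h2 (Ideal.mul_mem_mul (Ideal.mem_span_singleton_self f) hNT)
  have hIf : Ideal.span (gens : Set R) ≤ Ideal.span {f} := Ideal.span_le.2 fun y hy => by
    obtain ⟨p, -, rfl⟩ := Finset.mem_image.1 (Finset.mem_coe.1 hy)
    exact Ideal.mul_mem_right _ _ (Ideal.mem_span_singleton_self f)
  refine ⟨Ideal.span (gens : Set R), Submodule.fg_span gens.finite_toSet,
    le_antisymm (Ideal.radical_mono hIf) ?_, fun a ha R₁ _ _ e => ?_⟩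
  · rw [← Ideal.radical_idem (Ideal.span (gens : Set R))]
    exact Ideal.radical_mono ((Ideal.span_singleton_le_iff_mem _).2 ⟨N + 1, hfN⟩)
  refine (locallyFree_iff _).2 ⟨fun k hk => chart_bot e fun d hd => exists_pow_mul_eq_zero a fun p _ hap => ?_,
    fun k hk => top_unique (le_trans (le_of_eq ?_) (ideal_mono hk))⟩
  · obtain ⟨g, hg, ⟨b⟩⟩ := hbasis p fun hfp => hap ((hIf.trans ((Ideal.span_singleton_le_iff_mem _).2 hfp)) ha)
    obtain ⟨_, ⟨L, rfl⟩, hL⟩ := killed_of_localization_bot (Submonoid.powers g)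
      (by rw [ideal_of_basis b, if_neg (by omega)]) hd
    exact ⟨_, fun h => hg (Ideal.IsPrime.mem_of_pow_mem ‹_› L h), hL⟩
  · refine (ideal_quotient_eq_top (span_bc R₁ x hx) {z | ∃ d : T, z = fun j => phi R₁ (zf d j)} ?_
      (algebraMap R R₁ f) (algebraMap R R₁ a) (chart_nzd e) ?_ ?_ _
      fun m hm => (mem_powTorsion_iff _ m).2 ⟨1, by rwa [pow_one]⟩).symm
    · rintro _ ⟨d, rfl⟩ j
      exact mem_rel.1 (phi_mem_rel R₁ (mem_rel.2 (hzf d j)))
    · rintro _ ⟨d, rfl⟩ e'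
      rw [minor_phi, ← map_mul]
      exact chart_mem e (hI _ e' ⟨d, rfl⟩)
    · have h2 := Ideal.mem_map_of_mem (algebraMap R R₁) ha
      rw [Ideal.map_span] at h2
      refine Ideal.span_mono ?_ h2
      rintro _ ⟨y, hy, rfl⟩
      obtain ⟨⟨d, e'⟩, -, rfl⟩ := Finset.mem_image.1 (Finset.mem_coe.1 hy)
      exact ⟨_, ⟨d, rfl⟩, e', by rw [minor_phi, map_mul]⟩

end Groth.L13.Fitting
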